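import Mathlib.RingTheory.Flat.TorsionFree
import Mathlib.RingTheory.Flat.EquationalCriterion
import Mathlib.RingTheory.Filtration
import Mathlib.RingTheory.Idempotents
import Mathlib.RingTheory.Etale.Basic
import Mathlib.RingTheory.Unramified.Field
import Mathlib.RingTheory.DedekindDomain.Ideal.Lemmas
import Mathlib.RingTheory.Artinian.Ring
import Mathlib.LinearAlgebra.TensorProduct.Quotient

/-!
# Sections of a pinching commute with base change

`R` Dedekind, `B` finite étale, `ξ : T → D` split injective, `R` the pullback of `B → D ← T`.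
-/

set_option autoImplicit false
set_option linter.style.haveILetI false

universe u

open TensorProduct

namespace Groth.Agent.PinchSqLib.CohFlat

variable {R B D T : Type u} [CommRing R] [CommRing B] [CommRing D] [CommRing T]
  [Algebra R B] [Algebra R D] [Algebra R T] (ι : B →ₐ[R] D) (ξ : T →ₐ[R] D)

/-- The composite `B → D → coker ξ`. -/
def u : B →ₗ[R] D ⧸ LinearMap.range ξ.toLinearMap :=
  (LinearMap.range ξ.toLinearMap).mkQ.comp ι.toLinearMap

theorem u_algebraMap (r : R) : u ι ξ (algebraMap R B r) = 0 := by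
  simp only [u, LinearMap.comp_apply, Submodule.mkQ_apply, Submodule.Quotient.mk_eq_zero]
  exact ⟨algebraMap R T r, by simp⟩

section Split

variable [Module.Projective R (D ⧸ LinearMap.range ξ.toLinearMap)]

theorem exists_retraction (hξ : Function.Injective ξ) :
    ∃ ret : D →ₗ[R] T, ∀ t, ret (ξ t) = t := by
  obtain ⟨s, hs⟩ := Module.projective_lifting_property (LinearMap.range ξ.toLinearMap).mkQ
    LinearMap.id (Submodule.mkQ_surjective _)
  let h : D →ₗ[R] LinearMap.range ξ.toLinearMap :=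
    (LinearMap.id - s.comp (LinearMap.range ξ.toLinearMap).mkQ).codRestrict _ fun d => by
      rw [← Submodule.Quotient.mk_eq_zero]
      have := LinearMap.congr_fun hs (Submodule.Quotient.mk d)
      simp only [LinearMap.comp_apply, Submodule.mkQ_apply, LinearMap.id_apply] at this
      simp [this]
  refine ⟨(LinearEquiv.ofInjective ξ.toLinearMap hξ).symm.toLinearMap.comp h, fun t => ?_⟩
  apply (LinearEquiv.ofInjective ξ.toLinearMap hξ).injective
  rw [LinearMap.comp_apply, LinearEquiv.coe_toLinearMap, LinearEquiv.apply_symm_apply]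
  apply Subtype.ext
  have : (LinearMap.range ξ.toLinearMap).mkQ (ξ t) = 0 :=
    (Submodule.Quotient.mk_eq_zero _).2 ⟨t, rfl⟩
  simp [h, this]

theorem map_injective (hξ : Function.Injective ξ) (A : Type u) [CommRing A] [Algebra R A] :
    Function.Injective (Algebra.TensorProduct.map (AlgHom.id R A) ξ) := by
  obtain ⟨ret, hret⟩ := exists_retraction ξ hξ
  refine Function.LeftInverse.injective (g := ret.lTensor A) fun x => ?_
  induction x using TensorProduct.induction_on with
  | zero => simp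
  | tmul a t => simp [hret]
  | add x y hx hy => rw [map_add, map_add, hx, hy]

end Split

theorem u_lTensor_eq_zero {A : Type u} [CommRing A] [Algebra R A] {x : A ⊗[R] B} {y : A ⊗[R] T}
    (h : Algebra.TensorProduct.map (AlgHom.id R A) ι x = Algebra.TensorProduct.map (AlgHom.id R A) ξ y) :
    (u ι ξ).lTensor A x = 0 := by
  have e : (Algebra.TensorProduct.map (AlgHom.id R A) ι x) = ι.toLinearMap.lTensor A x := rfl
  have e' : (Algebra.TensorProduct.map (AlgHom.id R A) ξ y) = ξ.toLinearMap.lTensor A y := rfl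
  rw [e, e'] at h
  rw [u, LinearMap.lTensor_comp, LinearMap.comp_apply, h, ← LinearMap.comp_apply,
    ← LinearMap.lTensor_comp]
  rw [show (LinearMap.range ξ.toLinearMap).mkQ.comp ξ.toLinearMap = 0 from
    LinearMap.range_mkQ_comp _]
  simp

theorem exists_of_u_lTensor_eq_zero {A : Type u} [CommRing A] [Algebra R A] {x : A ⊗[R] B}
    (h : (u ι ξ).lTensor A x = 0) :
    ∃ y : A ⊗[R] T, Algebra.TensorProduct.map (AlgHom.id R A) ι x =
      Algebra.TensorProduct.map (AlgHom.id R A) ξ y := by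
  rw [u, LinearMap.lTensor_comp, LinearMap.comp_apply] at h
  obtain ⟨y, hy⟩ := (lTensor_exact A (LinearMap.exact_map_mkQ_range ξ.toLinearMap)
    (Submodule.mkQ_surjective _) _).1 h
  exact ⟨y, hy.symm⟩

/-- The kernel of the reduction along a nilpotent ideal is nil after tensoring. -/
theorem isNilpotent_of_map_eq_zero {N K M : Type u} [CommRing N] [CommRing K] [CommRing M]
    [Algebra R N] [Algebra R K] [Algebra R M] (π : N →ₐ[R] K) (hπ : Function.Surjective π) (n : ℕ)
    (hn : RingHom.ker π ^ n = ⊥) (x : N ⊗[R] M)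
    (hx : Algebra.TensorProduct.map π (AlgHom.id R M) x = 0) : IsNilpotent x := by
  have h : x ∈ RingHom.ker (Algebra.TensorProduct.map π (AlgHom.id R M)) := hx
  rw [Algebra.TensorProduct.rTensor_ker _ hπ] at h
  refine ⟨n, ?_⟩
  have h2 := Ideal.pow_mem_pow h n
  rw [← Ideal.map_pow, hn, Ideal.map_bot] at h2
  exact h2

theorem mem_smul_top_of_rTensor_mk (I : Ideal B) {Q : Type u} [AddCommGroup Q] [Module R Q]
    (z : B ⊗[R] Q) (hz : (Ideal.Quotient.mkₐ R I).toLinearMap.rTensor Q z = 0) :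
    z ∈ I • (⊤ : Submodule B (B ⊗[R] Q)) := by
  have hex : Function.Exact ((I.restrictScalars R).subtype) (Ideal.Quotient.mkₐ R I).toLinearMap :=
    fun b => ⟨fun h => ⟨⟨b, Ideal.Quotient.eq_zero_iff_mem.1 h⟩, rfl⟩,
      fun ⟨c, hc⟩ => hc ▸ Ideal.Quotient.eq_zero_iff_mem.2 c.2⟩
  obtain ⟨w, rfl⟩ := (rTensor_exact Q hex Ideal.Quotient.mk_surjective z).1 hz
  clear hz
  induction w using TensorProduct.induction_on with
  | zero => simp
  | tmul a q =>
    rw [LinearMap.rTensor_tmul, show (I.restrictScalars R).subtype a ⊗ₜ[R] q = (a : B) • ((1 : B) ⊗ₜ[R] q)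
      by rw [TensorProduct.smul_tmul', smul_eq_mul, mul_one]; rfl]
    exact Submodule.smul_mem_smul a.2 trivial
  | add x y hx hy => rw [map_add]; exact add_mem hx hy

theorem map_mk_eq_zero_of_mem_smul_top {q : Ideal B} {x : B ⊗[R] B}
    (hx : x ∈ q • (⊤ : Submodule B (B ⊗[R] B))) :
    Algebra.TensorProduct.map (Ideal.Quotient.mkₐ R q) (AlgHom.id R B) x = 0 := by
  induction hx using Submodule.smul_induction_on' with
  | smul a ha m _ =>
    rw [Algebra.smul_def, map_mul, Algebra.TensorProduct.algebraMap_apply, Algebra.algebraMap_self_apply,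
      Algebra.TensorProduct.map_tmul, show Ideal.Quotient.mkₐ R q a = 0 from
        Ideal.Quotient.eq_zero_iff_mem.2 ha, TensorProduct.zero_tmul, zero_mul]
  | add x _ y _ hx hy => rw [map_add, hx, hy, add_zero]

variable [IsNoetherianRing R] [Module.Finite R B] [Module.Flat R B] [Module.Finite R D]
  [Module.Projective R (D ⧸ LinearMap.range ξ.toLinearMap)]
  (hξ : Function.Injective ξ)
  (hker : ∀ b t, ι b = ξ t → ∃ r, algebraMap R B r = b)

include hker in
theorem exact_algebraMap_u : Function.Exact (Algebra.linearMap R B) (u ι ξ) := fun b =>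
  ⟨fun h => by
    obtain ⟨t, ht⟩ := (Submodule.Quotient.mk_eq_zero _).1 h
    obtain ⟨r, hr⟩ := hker b t ht.symm
    exact ⟨r, hr⟩,
  fun ⟨r, hr⟩ => hr ▸ u_algebraMap ι ξ r⟩

include hξ hker in
/-- Idempotents in the sections of a closed geometric fibre are constant. -/
theorem idempotent_mem (q : Ideal B) [q.IsMaximal] (e : (B ⧸ q) ⊗[R] B) (he : IsIdempotentElem e)
    (y : (B ⧸ q) ⊗[R] T)
    (hy : Algebra.TensorProduct.map (AlgHom.id R (B ⧸ q)) ι e =
      Algebra.TensorProduct.map (AlgHom.id R (B ⧸ q)) ξ y) :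
    ∃ c : B ⧸ q, e = c ⊗ₜ 1 := by
  haveI : IsNoetherianRing B := IsNoetherianRing.of_finite R B
  let f := (u ι ξ).baseChange B
  obtain ⟨k, hk⟩ := Ideal.exists_pow_inf_eq_pow_smul q (LinearMap.range f)
  let I := q ^ (k + 1)
  have hIq : I ≤ q := Ideal.pow_le_self k.succ_ne_zero
  let π : (B ⧸ I) →ₐ[R] (B ⧸ q) := Ideal.Quotient.factorₐ R hIq
  have hπ : Function.Surjective π := Ideal.Quotient.factor_surjective hIq
  have hπk : RingHom.ker π ^ (k + 1) = ⊥ := by
    have : RingHom.ker π = q.map (Ideal.Quotient.mk I) := Ideal.Quotient.factor_ker hIq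
    rw [this, ← Ideal.map_pow, Ideal.map_quotient_self]
  have hnil : ∀ (M : Type u) [CommRing M] [Algebra R M],
      ∀ x ∈ RingHom.ker (Algebra.TensorProduct.map π (AlgHom.id R M)).toRingHom, IsNilpotent x :=
    fun M _ _ x hx => isNilpotent_of_map_eq_zero π hπ _ hπk x hx
  have hsurj : ∀ (M : Type u) [CommRing M] [Algebra R M],
      Function.Surjective (Algebra.TensorProduct.map π (AlgHom.id R M)) :=
    fun M _ _ => TensorProduct.map_surjective hπ Function.surjective_id
  have hy' : IsIdempotentElem y := map_injective ξ hξ _ (by rw [map_mul, ← hy, ← map_mul, he.eq])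
  obtain ⟨e₁, he₁, hee⟩ := exists_isIdempotentElem_eq_of_ker_isNilpotent _ (hnil B) e (hsurj B e) he
  obtain ⟨y₁, hy₁, hyy⟩ := exists_isIdempotentElem_eq_of_ker_isNilpotent _ (hnil T) y (hsurj T y) hy'
  have heq : Algebra.TensorProduct.map (AlgHom.id R (B ⧸ I)) ι e₁ =
      Algebra.TensorProduct.map (AlgHom.id R (B ⧸ I)) ξ y₁ := by
    refine eq_of_isNilpotent_sub_of_isIdempotentElem (he₁.map _) (hy₁.map _) (hnil D _ ?_)
    rw [RingHom.mem_ker, map_sub, sub_eq_zero]
    have nat : ∀ {M : Type u} [CommRing M] [Algebra R M] (g : M →ₐ[R] D) (x : (B ⧸ I) ⊗[R] M),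
        Algebra.TensorProduct.map π (AlgHom.id R D) (Algebra.TensorProduct.map (AlgHom.id R (B ⧸ I)) g x) =
          Algebra.TensorProduct.map (AlgHom.id R (B ⧸ q)) g
            (Algebra.TensorProduct.map π (AlgHom.id R M) x) := fun g x => by
      induction x using TensorProduct.induction_on with
      | zero => simp
      | tmul a b => simp
      | add x y hx hy => rw [map_add, map_add, map_add, map_add, hx, hy]
    change Algebra.TensorProduct.map π (AlgHom.id R D) _ = Algebra.TensorProduct.map π (AlgHom.id R D) _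
    rw [nat, nat]
    exact (congrArg _ hee).trans (hy.trans (congrArg _ hyy.symm))
  have h0 := u_lTensor_eq_zero ι ξ heq
  obtain ⟨e₂, he₂⟩ := LinearMap.rTensor_surjective B
    (g := (Ideal.Quotient.mkₐ R I).toLinearMap) Ideal.Quotient.mk_surjective e₁
  have hf : f e₂ ∈ I • (⊤ : Submodule B (B ⊗[R] (D ⧸ LinearMap.range ξ.toLinearMap))) := by
    refine mem_smul_top_of_rTensor_mk I _ ?_
    rw [← h0, ← he₂]
    change ((LinearMap.rTensor _ _).comp ((u ι ξ).lTensor B)) e₂ =
      (((u ι ξ).lTensor (B ⧸ I)).comp ((Ideal.Quotient.mkₐ R I).toLinearMap.rTensor B)) e₂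
    rw [LinearMap.rTensor_comp_lTensor, LinearMap.lTensor_comp_rTensor]
  have hf' : f e₂ ∈ Submodule.map f (q • ⊤) := by
    rw [Submodule.map_smul'', Submodule.map_top]
    have h := hk (k + 1) k.le_succ ▸ (Submodule.mem_inf.2 ⟨hf, LinearMap.mem_range_self f e₂⟩)
    rw [Nat.add_sub_cancel_left, pow_one] at h
    exact Submodule.smul_mono le_rfl inf_le_right h
  obtain ⟨z, hz, hz'⟩ := hf'
  have hex := Module.Flat.lTensor_exact B (exact_algebraMap_u ι ξ hker)
  obtain ⟨w, hw⟩ := (hex (e₂ - z)).1 (by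
    change f (e₂ - z) = 0
    rw [map_sub, hz', sub_self])
  obtain ⟨b, hb⟩ : ∃ b : B, (Algebra.linearMap R B).lTensor B w = b ⊗ₜ[R] (1 : B) := by
    clear hw
    induction w using TensorProduct.induction_on with
    | zero => exact ⟨0, by simp⟩
    | tmul b r => exact ⟨r • b, by simp [Algebra.algebraMap_eq_smul_one, TensorProduct.smul_tmul]⟩
    | add x y hx hy =>
      obtain ⟨b, hb⟩ := hx
      obtain ⟨c, hc⟩ := hy
      exact ⟨b + c, by rw [map_add, hb, hc, TensorProduct.add_tmul]⟩
  refine ⟨Ideal.Quotient.mk q b, ?_⟩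
  have e3 : e = Algebra.TensorProduct.map (Ideal.Quotient.mkₐ R q) (AlgHom.id R B) e₂ := by
    have hc : π.comp (Ideal.Quotient.mkₐ R I) = Ideal.Quotient.mkₐ R q := AlgHom.ext fun _ => rfl
    rw [← hee, ← he₂, ← hc]
    clear hw hb hz' hf he₂
    induction e₂ using TensorProduct.induction_on with
    | zero => simp
    | tmul a b => simp
    | add x y hx hy => simp only [map_add] at hx hy ⊢; rw [hx, hy]
  rw [e3, eq_add_of_sub_eq (hw.symm.trans hb), map_add, map_mk_eq_zero_of_mem_smul_top hz, add_zero]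
  simp

variable [IsDedekindDomain R] [Algebra.Etale R B]

include hξ hker in
theorem sections_fibre (q : Ideal B) [q.IsMaximal] (x : (B ⧸ q) ⊗[R] B)
    (hx : (u ι ξ).lTensor (B ⧸ q) x = 0) : ∃ c : B ⧸ q, x = c ⊗ₜ 1 := by
  letI : Field (B ⧸ q) := Ideal.Quotient.field q
  obtain ⟨y, hy⟩ := exists_of_u_lTensor_eq_zero ι ξ hx
  let ιK := Algebra.TensorProduct.map (AlgHom.id (B ⧸ q) (B ⧸ q)) ι
  let ξK := Algebra.TensorProduct.map (AlgHom.id (B ⧸ q) (B ⧸ q)) ξ
  let L : Subalgebra (B ⧸ q) ((B ⧸ q) ⊗[R] B) := ξK.range.comap ιK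
  let χ : (B ⧸ q) ⊗[R] B →ₐ[B ⧸ q] B ⧸ q :=
    Algebra.TensorProduct.lift (AlgHom.id (B ⧸ q) (B ⧸ q)) (Ideal.Quotient.mkₐ R q)
      fun _ _ => Commute.all _ _
  have hxL : x ∈ L := ⟨y, hy.symm⟩
  obtain ⟨x', hx'def⟩ : ∃ x' : L, x' = ⟨x, hxL⟩ - algebraMap (B ⧸ q) L (χ x) := ⟨_, rfl⟩
  haveI : IsReduced ((B ⧸ q) ⊗[R] B) := Algebra.FormallyUnramified.isReduced_of_field (B ⧸ q) _
  haveI : IsReduced L := isReduced_of_injective L.val Subtype.val_injective
  haveI : IsArtinianRing L := IsArtinianRing.of_finite (B ⧸ q) L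
  obtain ⟨n, w, hn⟩ := IsArtinian.exists_pow_succ_smul_dvd (R := L) (M := L) x' (1 : L)
  simp only [smul_eq_mul, mul_one, Nat.succ_eq_add_one] at hn
  have hreg : x' = x' * (x' * w) := by
    have h : (x' - x' * (x' * w)) ^ (n + 1) = 0 := by
      have : x' ^ n * (1 - x' * w) = 0 := by linear_combination -hn
      calc (x' - x' * (x' * w)) ^ (n + 1) = (x' * (1 - x' * w)) ^ (n + 1) := by congr 1; ring
        _ = (x' ^ n * (1 - x' * w)) * (x' * (1 - x' * w) ^ n) := by rw [mul_pow, pow_succ, pow_succ]; ring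
        _ = 0 := by rw [this, zero_mul]
    exact sub_eq_zero.1 (IsReduced.eq_zero _ ⟨_, h⟩)
  have hid : IsIdempotentElem (x' * w) := by
    change x' * w * (x' * w) = x' * w
    calc x' * w * (x' * w) = x' * (x' * w) * w := by ring
      _ = x' * w := by rw [← hreg]
  obtain ⟨yy, hyy⟩ := (x' * w).2
  obtain ⟨c, hc⟩ := idempotent_mem ι ξ hξ hker q _ (hid.map L.val) yy hyy.symm
  have hχ : χ (x' : (B ⧸ q) ⊗[R] B) = 0 := by simp [hx'def, χ]
  have hc0 : c = 0 := by
    have := congrArg χ hc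
    simp only [Subalgebra.coe_val, MulMemClass.coe_mul, map_mul, hχ, zero_mul] at this
    simpa [χ] using this.symm
  have hx' : x' = 0 := by
    rw [hreg, show x' * w = 0 from Subtype.ext (by rw [← Subalgebra.coe_val, hc, hc0]; simp), mul_zero]
  exact ⟨χ x, sub_eq_zero.1 (congrArg Subtype.val (hx'def.symm.trans hx'))⟩

variable (hinj : Function.Injective (algebraMap R B))

include hξ hker hinj in
theorem mod_maximal (p : Ideal R) [p.IsMaximal] (b : B)
    (hb : u ι ξ b ∈ p • (⊤ : Submodule R (D ⧸ LinearMap.range ξ.toLinearMap))) :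
    ∃ r : R, b - algebraMap R B r ∈ p • (⊤ : Submodule R B) := by
  haveI : Algebra.IsIntegral R B := inferInstance
  obtain ⟨q, hq, hqp⟩ := Ideal.exists_ideal_over_maximal_of_isIntegral (S := B) p
    (by rw [(RingHom.injective_iff_ker_eq_bot _).1 hinj]; exact bot_le)
  have hmem : ∀ a ∈ p, algebraMap R (B ⧸ q) a = 0 := fun a ha => by
    rw [IsScalarTower.algebraMap_apply R B (B ⧸ q), Ideal.Quotient.algebraMap_eq,
      Ideal.Quotient.eq_zero_iff_mem, ← Ideal.mem_comap, hqp]
    exact ha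
  have h1 : (u ι ξ).lTensor (B ⧸ q) ((1 : B ⧸ q) ⊗ₜ b) = 0 := by
    rw [LinearMap.lTensor_tmul]
    generalize u ι ξ b = v at hb
    induction hb using Submodule.smul_induction_on' with
    | smul a ha m _ => rw [← TensorProduct.smul_tmul, Algebra.smul_def, hmem a ha, zero_mul, TensorProduct.zero_tmul]
    | add x _ y _ hx hy => rw [TensorProduct.tmul_add, hx, hy, add_zero]
  obtain ⟨c, hc⟩ := sections_fibre ι ξ hξ hker q _ h1
  letI : Field (R ⧸ p) := Ideal.Quotient.field p
  letI : Algebra (R ⧸ p) (B ⧸ q) := (Ideal.Quotient.lift p (algebraMap R (B ⧸ q)) hmem).toAlgebra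
  haveI : IsScalarTower R (R ⧸ p) (B ⧸ q) := IsScalarTower.of_algebraMap_eq fun _ => rfl
  haveI : Nontrivial (B ⧸ q) := Ideal.Quotient.nontrivial_iff.2 hq.ne_top
  obtain ⟨φ, hφ⟩ := (Algebra.linearMap (R ⧸ p) (B ⧸ q)).exists_leftInverse_of_injective
    (LinearMap.ker_eq_bot.2 (algebraMap (R ⧸ p) (B ⧸ q)).injective)
  have hφ1 : φ 1 = 1 := by simpa using LinearMap.congr_fun hφ 1
  have h2 := congrArg ((φ.restrictScalars R).rTensor B) hc
  simp only [LinearMap.rTensor_tmul, LinearMap.coe_restrictScalars, hφ1] at h2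
  obtain ⟨r, hr⟩ := Ideal.Quotient.mk_surjective (φ c)
  refine ⟨r, ?_⟩
  rw [← hr, ← map_one (Ideal.Quotient.mk p)] at h2
  have h3 := congrArg (TensorProduct.quotTensorEquivQuotSMul B p) h2
  rw [TensorProduct.quotTensorEquivQuotSMul_mk_tmul, TensorProduct.quotTensorEquivQuotSMul_mk_tmul,
    one_smul, Submodule.Quotient.eq] at h3
  rwa [Algebra.algebraMap_eq_smul_one]

include hξ hker hinj in
theorem mem_range_of_smul_mem (r : R) (hr : r ≠ 0) (v : D ⧸ LinearMap.range ξ.toLinearMap)
    (hv : r • v ∈ LinearMap.range (u ι ξ)) : v ∈ LinearMap.range (u ι ξ) := by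
  set M := LinearMap.range (u ι ξ)
  let I : Ideal R := M.comap (LinearMap.toSpanSingleton R _ v)
  suffices I = ⊤ by simpa [I] using (Ideal.eq_top_iff_one I).1 this
  by_contra hI
  obtain ⟨p, hp, hIp⟩ := Ideal.exists_le_maximal I hI
  obtain ⟨J, hJ⟩ := Ideal.dvd_iff_le.2 hIp
  have hI0 : I ≠ ⊥ := fun h => hr (by simpa [h] using (show r ∈ I from hv))
  have hJI : ¬ J ≤ I := fun h => by
    have h' : J = p * J := le_antisymm (h.trans hJ.le) Ideal.mul_le_right
    have hJ0 : J ≠ ⊥ := fun h0 => hI0 (by rw [hJ, h0, Ideal.mul_bot])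
    exact hp.ne_top (mul_right_cancel₀ hJ0 (by rw [← h', Ideal.top_mul]))
  obtain ⟨c, hcJ, hcI⟩ := SetLike.not_le_iff_exists.1 hJI
  have hv1 : ∀ a ∈ p, a • (c • v) ∈ M := fun a ha => by
    rw [← mul_smul]
    exact (show a * c ∈ I from hJ ▸ Ideal.mul_mem_mul ha hcJ)
  have hp0 : p ≠ ⊥ := fun h => hI0 (le_bot_iff.1 (h ▸ hIp))
  obtain ⟨π, hπp, hπ2⟩ := SetLike.exists_of_lt
    (Ideal.pow_right_strictAnti p hp0 hp.ne_top Nat.one_lt_two : p ^ (1 + 1) < p ^ 1)
  replace hπp : π ∈ p := by simpa using hπp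
  replace hπ2 : π ∉ p * p := fun h => hπ2 (by simpa [pow_succ] using h)
  obtain ⟨J', hJ'⟩ := Ideal.dvd_iff_le.2 ((Ideal.span_singleton_le_iff_mem p).2 hπp)
  have hJp : ¬ J' ≤ p := fun h => hπ2
    ((hJ'.le.trans (Ideal.mul_mono_right h)) (Ideal.mem_span_singleton_self π))
  obtain ⟨s, hsJ, hsp⟩ := SetLike.not_le_iff_exists.1 hJp
  have hπ0 : π ≠ 0 := fun h => hπ2 (h ▸ zero_mem _)
  obtain ⟨b, hb⟩ := hv1 π hπp
  obtain ⟨r', hr'⟩ := mod_maximal ι ξ hξ hker hinj p b (hb ▸ Submodule.smul_mem_smul hπp trivial)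
  obtain ⟨b', hb'⟩ : ∃ b', s • (b - algebraMap R B r') = π • b' := by
    generalize b - algebraMap R B r' = z at hr'
    induction hr' using Submodule.smul_induction_on' with
    | smul a ha m _ =>
      obtain ⟨t, ht⟩ := Ideal.mem_span_singleton'.1 (show s * a ∈ Ideal.span {π} by
        rw [hJ', mul_comm p J']; exact Ideal.mul_mem_mul hsJ ha)
      exact ⟨t • m, by rw [← mul_smul, ← mul_smul, ← ht, mul_comm]⟩
    | add x _ y _ hx hy =>
      obtain ⟨x', hx'⟩ := hx
      obtain ⟨y', hy'⟩ := hy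
      exact ⟨x' + y', by rw [smul_add, smul_add, hx', hy']⟩
  have h4 : π • u ι ξ b' = π • (s • (c • v)) := by
    rw [← map_smul, ← hb', map_smul, map_sub, u_algebraMap, sub_zero, hb, smul_comm]
  have h5 : u ι ξ b' = s • (c • v) := smul_right_injective _ hπ0 h4
  let I' : Ideal R := M.comap (LinearMap.toSpanSingleton R _ (c • v))
  have htop : I' = ⊤ := hp.out.2 I' (lt_of_le_of_ne hv1 fun h => hsp
    (h ▸ (show s ∈ I' from ⟨b', h5⟩)))
  exact hcI (by simpa [I', I] using (Ideal.eq_top_iff_one I').1 htop)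

include hξ hker hinj in
/-- `R → B → coker ξ` is split exact. -/
theorem exists_split :
    ∃ (g : B →ₗ[R] R) (h : D ⧸ LinearMap.range ξ.toLinearMap →ₗ[R] B),
      (∀ r, g (algebraMap R B r) = r) ∧ ∀ b, b = algebraMap R B (g b) + h (u ι ξ b) := by
  set Q := D ⧸ LinearMap.range ξ.toLinearMap
  set M := LinearMap.range (u ι ξ)
  haveI : Module.Flat R M := by
    rw [IsDedekindDomain.flat_iff_torsion_eq_bot, ← Submodule.isTorsionFree_iff_torsion_eq_bot]
    infer_instance
  haveI : Module.IsTorsionFree R (Q ⧸ M) := by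
    refine Module.IsTorsionFree.mk fun r hr x y hxy => ?_
    obtain ⟨x, rfl⟩ := Submodule.Quotient.mk_surjective _ x
    obtain ⟨y, rfl⟩ := Submodule.Quotient.mk_surjective _ y
    rw [Submodule.Quotient.eq]
    refine mem_range_of_smul_mem ι ξ hξ hker hinj r hr.ne_zero _ ?_
    rw [smul_sub, ← Submodule.Quotient.eq]
    exact hxy
  haveI : Module.Flat R (Q ⧸ M) := by
    rw [IsDedekindDomain.flat_iff_torsion_eq_bot, ← Submodule.isTorsionFree_iff_torsion_eq_bot]
    infer_instance
  haveI : Module.FinitePresentation R (Q ⧸ M) := Module.finitePresentation_of_finite _ _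
  haveI : Module.FinitePresentation R M := Module.finitePresentation_of_finite _ _
  haveI : Module.Projective R (Q ⧸ M) := Module.Flat.projective_of_finitePresentation
  haveI : Module.Projective R M := Module.Flat.projective_of_finitePresentation
  obtain ⟨σ, hσ⟩ := Module.projective_lifting_property (u ι ξ).rangeRestrict LinearMap.id
    (u ι ξ).surjective_rangeRestrict
  obtain ⟨s, hs⟩ := Module.projective_lifting_property M.mkQ LinearMap.id (Submodule.mkQ_surjective _)
  let ρ : Q →ₗ[R] M := (LinearMap.id - s.comp M.mkQ).codRestrict _ fun d => by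
    rw [← Submodule.Quotient.mk_eq_zero]
    have := LinearMap.congr_fun hs (Submodule.Quotient.mk d)
    simp only [LinearMap.comp_apply, Submodule.mkQ_apply, LinearMap.id_apply] at this
    simp [this]
  let h := σ.comp ρ
  have hρ : ∀ b, ρ (u ι ξ b) = (u ι ξ).rangeRestrict b := fun b => Subtype.ext (by
    have : M.mkQ (u ι ξ b) = 0 := (Submodule.Quotient.mk_eq_zero _).2 ⟨b, rfl⟩
    simp [ρ, this])
  have hP : ∀ b, u ι ξ (b - h (u ι ξ b)) = 0 := fun b => by
    have := congrArg Subtype.val (LinearMap.congr_fun hσ ((u ι ξ).rangeRestrict b))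
    simp only [LinearMap.comp_apply, LinearMap.id_apply] at this
    rw [map_sub, LinearMap.comp_apply, hρ]
    exact sub_eq_zero.2 this.symm
  let e := LinearEquiv.ofInjective (Algebra.linearMap R B) hinj
  let g : B →ₗ[R] R := e.symm.toLinearMap.comp
    ((LinearMap.id - h.comp (u ι ξ)).codRestrict _ fun b => by
      obtain ⟨r, hr⟩ := (exact_algebraMap_u ι ξ hker _).1 (hP b)
      exact ⟨r, hr⟩)
  have hg : ∀ b, algebraMap R B (g b) = b - h (u ι ξ b) := fun b =>
    congrArg Subtype.val (e.apply_symm_apply _)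
  exact ⟨g, h, fun r => hinj (by rw [hg, u_algebraMap, map_zero, sub_zero]),
    fun b => by rw [hg, sub_add_cancel]⟩

include hξ hker hinj in
/-- The pullback `R` of `B → D ← T` commutes with every base change. -/
theorem main (A : Type u) [CommRing A] [Algebra R A] :
    Function.Injective (algebraMap A (A ⊗[R] B)) ∧
      ∀ (x : A ⊗[R] B) (y : A ⊗[R] T),
        Algebra.TensorProduct.map (AlgHom.id R A) ι x = Algebra.TensorProduct.map (AlgHom.id R A) ξ y →
          ∃ a : A, algebraMap A (A ⊗[R] B) a = x ∧ algebraMap A (A ⊗[R] T) a = y := by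
  obtain ⟨g, h, hg, hb⟩ := exists_split ι ξ hξ hker hinj
  let gA : A ⊗[R] B →ₗ[R] A := (TensorProduct.rid R A).toLinearMap.comp (g.lTensor A)
  have hgA : ∀ a : A, gA (algebraMap A (A ⊗[R] B) a) = a := fun a => by
    have h1 : g 1 = 1 := by rw [← map_one (algebraMap R B), hg]
    simp [gA, Algebra.TensorProduct.algebraMap_apply, h1]
  refine ⟨Function.LeftInverse.injective hgA, fun x y hxy => ?_⟩
  have hx : algebraMap A (A ⊗[R] B) (gA x) = x := by
    have key : ∀ z : A ⊗[R] B, z = algebraMap A (A ⊗[R] B) (gA z) + h.lTensor A ((u ι ξ).lTensor A z) :=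
      fun z => by
      induction z using TensorProduct.induction_on with
      | zero => simp
      | tmul a b =>
        simp only [gA, LinearMap.comp_apply, LinearMap.lTensor_tmul, LinearEquiv.coe_coe,
          TensorProduct.rid_tmul, Algebra.TensorProduct.algebraMap_apply, Algebra.algebraMap_self_apply]
        rw [TensorProduct.smul_tmul, ← Algebra.algebraMap_eq_smul_one, ← TensorProduct.tmul_add, ← hb]
      | add z w hz hw =>
        simp only [map_add]
        rw [add_add_add_comm, ← hz, ← hw]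
    have := key x
    rw [u_lTensor_eq_zero ι ξ hxy, map_zero, add_zero] at this
    exact this.symm
  refine ⟨gA x, hx, map_injective ξ hξ A ?_⟩
  rw [← hxy]
  conv_rhs => rw [← hx]
  simp [Algebra.TensorProduct.algebraMap_apply]

end Groth.Agent.PinchSqLib.CohFlat
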