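import Groth.Prelude.Def_EtMil
import Groth.Agent.FlatCxLib.Algebra
import Mathlib.RingTheory.Flat.Basic

/-! Fibre squares of algebras flat over a base. -/

set_option autoImplicit false
universe u
open TensorProduct

namespace Groth.Agent.PinchSqLib

variable (R B' B A' A : Type u) [CommRing R] [CommRing B'] [CommRing B] [CommRing A'] [CommRing A]
    [Algebra B' B] [Algebra B' A'] [Algebra B A] [Algebra A' A] [Algebra B' A]
    [IsScalarTower B' B A] [IsScalarTower B' A' A]
    [Algebra R B'] [Algebra R B] [Algebra R A'] [Algebra R A]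
    [IsScalarTower R B' B] [IsScalarTower R B' A'] [IsScalarTower R B' A] [IsScalarTower R B A] [IsScalarTower R A' A]

/-- `B' → B × A'`. -/
noncomputable def toProd : B' →ₗ[R] B × A' :=
  (IsScalarTower.toAlgHom R B' B).toLinearMap.prod (IsScalarTower.toAlgHom R B' A').toLinearMap

/-- `B × A' → A`, the difference. -/
noncomputable def diff : B × A' →ₗ[R] A :=
  (IsScalarTower.toAlgHom R B A).toLinearMap.coprod (-(IsScalarTower.toAlgHom R A' A).toLinearMap)

variable {R B' B A' A}

lemma diff_eq_zero_iff (p : B × A') :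
    diff R B A' A p = 0 ↔ algebraMap B A p.1 = algebraMap A' A p.2 := by
  simp [diff, ← sub_eq_add_neg, sub_eq_zero]

lemma injective_toProd (hsq : EtMil.IsFibreSquare B' B A' A) : Function.Injective (toProd R B' B A') := by
  intro x y h
  have h1 : algebraMap B' B x = algebraMap B' B y := congrArg Prod.fst h
  have h2 : algebraMap B' A' x = algebraMap B' A' y := congrArg Prod.snd h
  obtain ⟨z, -, hz⟩ := hsq.2 (algebraMap B' B x) (algebraMap B' A' x) (by
    rw [← IsScalarTower.algebraMap_apply, ← IsScalarTower.algebraMap_apply])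
  exact (hz x ⟨rfl, rfl⟩).trans (hz y ⟨h1.symm, h2.symm⟩).symm

lemma exact_toProd_diff (hsq : EtMil.IsFibreSquare B' B A' A) :
    Function.Exact (toProd R B' B A') (diff R B A' A) := by
  intro p
  rw [diff_eq_zero_iff]
  constructor
  · intro h
    obtain ⟨z, ⟨h1, h2⟩, -⟩ := hsq.2 p.1 p.2 h
    exact ⟨z, Prod.ext h1 h2⟩
  · rintro ⟨z, rfl⟩
    exact (IsScalarTower.algebraMap_apply B' B A z).symm.trans (IsScalarTower.algebraMap_apply B' A' A z)

lemma surjective_diff (hsq : EtMil.IsFibreSquare B' B A' A) : Function.Surjective (diff R B A' A) := by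
  intro a
  obtain ⟨c, hc⟩ := hsq.1 (-a)
  exact ⟨(0, c), by simp [diff, hc]⟩

end Groth.Agent.PinchSqLib
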