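import Groth.Agent.PinchSqLib.Sections
import Groth.Agent.PicLib.BasisOn
import Groth.Agent.Coherent.PullUnit

/-!
# Finite locally free modules on a pushout of ringed spaces are glued from the two sides
-/

set_option autoImplicit false
set_option backward.isDefEq.respectTransparency.types false

universe u

open CategoryTheory CategoryTheory.Limits AlgebraicGeometry Opposite TopologicalSpace
open Groth.Agent.Coherent Groth.Agent.PicLib

noncomputable section

namespace Groth.Agent.PinchSqLib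

variable {X Y Z T : Scheme.{u}}

theorem hom_ext_on_pullSec (f : X ⟶ T) {M : T.Modules} {N : X.Modules}
    {φ ψ : (Scheme.Modules.pullback f).obj M ⟶ N}
    (h : ∀ (V : T.Opens) (m : Γ(M, V)), φ.app (f ⁻¹ᵁ V) (pullSec f m) = ψ.app (f ⁻¹ᵁ V) (pullSec f m)) :
    φ = ψ :=
  ((Scheme.Modules.pullbackPushforwardAdjunction f).homEquiv _ _).injective
    (Scheme.Modules.hom_ext _ _ fun V => ConcreteCategory.hom_ext _ _ fun m => h V m)

theorem map_pullSec (f : X ⟶ T) {M N : T.Modules} (φ : M ⟶ N) {U : T.Opens} (m : Γ(M, U)) :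
    ((Scheme.Modules.pullback f).map φ).app _ (pullSec f m) = pullSec f (φ.app U m) :=
  congr(($((Scheme.Modules.pullbackPushforwardAdjunction f).unit.naturality φ)).app U m).symm

theorem congr_app_pullSec {p q : X ⟶ T} (e : p = q) (M : T.Modules) {U : T.Opens} (m : Γ(M, U))
    {W : X.Opens} (h₁ : W ≤ p ⁻¹ᵁ U) (h₂ : W ≤ q ⁻¹ᵁ U) :
    ((Scheme.Modules.pullbackCongr e).hom.app M).app W (resM _ h₁ (pullSec p m)) = resM _ h₂ (pullSec q m) := by
  subst e
  simp [Scheme.Modules.pullbackCongr]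

theorem comp_app_pullSec (f : Z ⟶ X) (g : X ⟶ T) (M : T.Modules) {U : T.Opens} (m : Γ(M, U)) :
    ((Scheme.Modules.pullbackComp f g).hom.app M).app (f ⁻¹ᵁ (g ⁻¹ᵁ U)) (pullSec f (pullSec g m)) =
      pullSec (f ≫ g) m := by
  rw [← pullbackComp_inv_app_pullSec]
  exact congr(($((Scheme.Modules.pullbackComp f g).inv_hom_id_app M)).app ((f ≫ g) ⁻¹ᵁ U) _)

section

variable (fX : Z ⟶ X) (fY : Z ⟶ Y) (gX : X ⟶ T) (gY : Y ⟶ T) (hw : fX ≫ gX = fY ≫ gY)

/-- The two sides induce the same section on the corner. -/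
def Compat (N : T.Modules) {V : T.Opens} (a : Γ((Scheme.Modules.pullback gX).obj N, gX ⁻¹ᵁ V))
    (b : Γ((Scheme.Modules.pullback gY).obj N, gY ⁻¹ᵁ V)) : Prop :=
  ∀ (W : Z.Opens) (h₁ : W ≤ fX ⁻¹ᵁ (gX ⁻¹ᵁ V)) (h₂ : W ≤ fY ⁻¹ᵁ (gY ⁻¹ᵁ V)),
    ((Scheme.Modules.pullbackCongr hw).hom.app N).app W
        (resM _ h₁ (((Scheme.Modules.pullbackComp fX gX).hom.app N).app _ (pullSec fX a))) =
      resM _ h₂ (((Scheme.Modules.pullbackComp fY gY).hom.app N).app _ (pullSec fY b))

variable {fX fY gX gY hw}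

theorem Compat.restrict {N : T.Modules} {V V' : T.Opens} {a : Γ((Scheme.Modules.pullback gX).obj N, gX ⁻¹ᵁ V)}
    {b : Γ((Scheme.Modules.pullback gY).obj N, gY ⁻¹ᵁ V)} (hc : Compat fX fY gX gY hw N a b) (h : V' ≤ V) :
    Compat fX fY gX gY hw N (resM _ (gX.preimage_mono h) a) (resM _ (gY.preimage_mono h) b) := by
  intro W h₁ h₂
  have e : ∀ {P : Scheme.{u}} (f : Z ⟶ P) (g : P ⟶ T) (x : Γ((Scheme.Modules.pullback g).obj N, g ⁻¹ᵁ V))
      (h₀ : W ≤ f ⁻¹ᵁ (g ⁻¹ᵁ V')),
      resM _ h₀ (((Scheme.Modules.pullbackComp f g).hom.app N).app _ (pullSec f (resM _ (g.preimage_mono h) x))) =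
        resM _ (h₀.trans (f.preimage_mono (g.preimage_mono h)))
          (((Scheme.Modules.pullbackComp f g).hom.app N).app _ (pullSec f x)) := fun f g x h₀ =>
    (congrArg (resM _ h₀) ((congrArg _ (resM_pullSec f (g.preimage_mono h) x).symm).trans
      (app_resM ((Scheme.Modules.pullbackComp f g).hom.app N) (f.preimage_mono (g.preimage_mono h)) _))).trans
      (resM_resM _ _ _ _)
  refine Eq.trans ?_ ((hc W (h₁.trans (fX.preimage_mono (gX.preimage_mono h)))
    (h₂.trans (fY.preimage_mono (gY.preimage_mono h)))).trans (e fY gY b h₂).symm)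
  exact congrArg _ (e fX gX a h₁)

variable (hpo : IsPushout ((Scheme.forgetToLocallyRingedSpace ⋙ LocallyRingedSpace.forgetToSheafedSpace).map fX)
    ((Scheme.forgetToLocallyRingedSpace ⋙ LocallyRingedSpace.forgetToSheafedSpace).map fY)
    ((Scheme.forgetToLocallyRingedSpace ⋙ LocallyRingedSpace.forgetToSheafedSpace).map gX)
    ((Scheme.forgetToLocallyRingedSpace ⋙ LocallyRingedSpace.forgetToSheafedSpace).map gY))

include hw hpo in
theorem app_ext (V : T.Opens) {s t : Γ(T, V)} (hX : gX.app V s = gX.app V t) (hY : gY.app V s = gY.app V t) :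
    s = t := by
  refine (existsUnique_app hpo V (gX.app V t) (gY.app V t) fun W h₁ h₂ => ?_).unique ⟨hX, hY⟩ ⟨rfl, rfl⟩
  show (gX.app V ≫ fX.appLE _ W h₁) t = (gY.app V ≫ fY.appLE _ W h₂) t
  rw [Scheme.Hom.app_eq_appLE, Scheme.Hom.app_eq_appLE, Scheme.Hom.appLE_comp_appLE,
    Scheme.Hom.appLE_comp_appLE]
  simp only [hw]

include hpo in
theorem sections_bijective_of_basis {N : T.Modules} {I : Type u} [Fintype I] {U : T.Opens} {e : I → Γ(N, U)}
    (hb : IsBasisOn N U e) {V : T.Opens} (hV : V ≤ U) :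
    (∀ n n' : Γ(N, V), pullSec gX n = pullSec gX n' → pullSec gY n = pullSec gY n' → n = n') ∧
      ∀ a b, Compat fX fY gX gY hw N (V := V) a b → ∃ n : Γ(N, V), pullSec gX n = a ∧ pullSec gY n = b := by
  classical
  have hbX := hb.pull gX
  have hbY := hb.pull gY
  have hbk := hb.pull (fY ≫ gY)
  have key : ∀ {W : Scheme.{u}} (g : W ⟶ T) (c : I → Γ(T, V)),
      pullSec g (∑ i, c i • resM N hV (e i)) =
        ∑ i, g.app V (c i) • resM _ (g.preimage_mono hV) (pullSec g (e i)) := fun g c => by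
    refine (map_sum (((Scheme.Modules.pullbackPushforwardAdjunction g).unit.app N).app V).hom _ _).trans
      (Finset.sum_congr rfl fun i _ => (pullSec_smul g _ _).trans ?_)
    rw [← resM_pullSec]
  constructor
  · intro n n' hX hY
    rw [← hb.coef_spec hV n, ← hb.coef_spec hV n'] at hX hY ⊢
    rw [key, key] at hX hY
    refine congrArg (fun c : I → Γ(T, V) => ∑ i, c i • resM N hV (e i)) (funext fun i => ?_)
    exact app_ext (hw := hw) hpo V (congrFun ((hbX (gX.preimage_mono hV)).1 hX) i)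
      (congrFun ((hbY (gY.preimage_mono hV)).1 hY) i)
  · intro a b hc
    obtain ⟨α, rfl⟩ := (hbX (gX.preimage_mono hV)).2 a
    obtain ⟨β, rfl⟩ := (hbY (gY.preimage_mono hV)).2 b
    have hcoef : ∀ i (W : Z.Opens) (h₁ : W ≤ fX ⁻¹ᵁ (gX ⁻¹ᵁ V)) (h₂ : W ≤ fY ⁻¹ᵁ (gY ⁻¹ᵁ V)),
        fX.appLE _ W h₁ (α i) = fY.appLE _ W h₂ (β i) := by
      intro i W h₁ h₂
      have h := hc W h₁ h₂
      have hk : W ≤ (fY ≫ gY) ⁻¹ᵁ U := h₂.trans ((fY ≫ gY).preimage_mono hV)
      let S := fun c : I → Γ(Z, W) => ∑ i, c i • resM ((Scheme.Modules.pullback (fY ≫ gY)).obj N) hk (pullSec (fY ≫ gY) (e i))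
      have hl : ∀ {P : Scheme.{u}} (f : Z ⟶ P) (g : P ⟶ T) (γ : I → Γ(P, g ⁻¹ᵁ V)) (h₀ : W ≤ f ⁻¹ᵁ (g ⁻¹ᵁ V)),
          resM _ h₀ (((Scheme.Modules.pullbackComp f g).hom.app N).app _
            (pullSec f (∑ i, γ i • resM _ (g.preimage_mono hV) (pullSec g (e i))))) =
          ∑ i, f.appLE _ W h₀ (γ i) •
            resM _ (h₀.trans ((f ≫ g).preimage_mono hV)) (pullSec (f ≫ g) (e i)) := fun f g γ h₀ => by
        refine (congrArg (fun z => resM _ h₀ (((Scheme.Modules.pullbackComp f g).hom.app N).app _ z))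
          (map_sum (((Scheme.Modules.pullbackPushforwardAdjunction f).unit.app _).app (g ⁻¹ᵁ V)).hom _ _)).trans ?_
        refine ((congrArg (resM _ h₀) (map_sum (((Scheme.Modules.pullbackComp f g).hom.app N).app _).hom _ _)).trans
          (map_sum (resM _ h₀) _ _)).trans (Finset.sum_congr rfl fun i _ => ?_)
        refine (congrArg (fun z => resM _ h₀ (((Scheme.Modules.pullbackComp f g).hom.app N).app _ z))
          ((pullSec_smul f (γ i) _).trans (congrArg (f.app _ (γ i) • ·)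
            (resM_pullSec f (g.preimage_mono hV) (pullSec g (e i))).symm))).trans ?_
        refine (congrArg (resM _ h₀) (Scheme.Modules.Hom.app_smul _ _ _)).trans ?_
        refine (resM_smul _ h₀ _ _).trans ?_
        refine congrArg₂ (· • ·) rfl ?_
        refine (congrArg (resM _ h₀) ((app_resM _ (f.preimage_mono (g.preimage_mono hV)) _).trans
          (congrArg _ (comp_app_pullSec f g N (e i))))).trans ?_
        exact resM_resM _ _ _ _
      have hS : S (fun i => fX.appLE _ W h₁ (α i)) = S (fun i => fY.appLE _ W h₂ (β i)) := by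
        refine Eq.trans ?_ (h.trans (hl fY gY β h₂))
        refine (Eq.trans (congrArg _ (hl fX gX α h₁)) ((map_sum _ _ _).trans (Finset.sum_congr rfl fun i _ => ?_))).symm
        rw [Scheme.Modules.Hom.app_smul, congr_app_pullSec hw N (e i)]
      exact congrFun ((hbk hk).1 hS) i
    choose γ hγ hγu using fun i => existsUnique_app hpo V (α i) (β i) (hcoef i)
    exact ⟨∑ i, γ i • resM N hV (e i), (key gX γ).trans (Finset.sum_congr rfl fun i _ => by rw [(hγ i).1]),
      (key gY γ).trans (Finset.sum_congr rfl fun i _ => by rw [(hγ i).2])⟩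

include hpo in
theorem existsUnique_section {N : T.Modules} (hN : FlatMod.IsFinLocFree N) (V : T.Opens)
    (a : Γ((Scheme.Modules.pullback gX).obj N, gX ⁻¹ᵁ V)) (b : Γ((Scheme.Modules.pullback gY).obj N, gY ⁻¹ᵁ V))
    (hc : Compat fX fY gX gY hw N a b) :
    ∃! n : Γ(N, V), pullSec gX n = a ∧ pullSec gY n = b := by
  choose W r z hmem hz using exists_isBasisOn hN
  have hcov : V ≤ ⨆ y, V ⊓ W y := fun x hx => Opens.mem_iSup.2 ⟨x, hx, hmem x⟩
  have hinj : ∀ (V' : T.Opens) (n n' : Γ(N, V')), pullSec gX n = pullSec gX n' → pullSec gY n = pullSec gY n' →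
      n = n' := fun V' n n' hX hY => by
    refine TopCat.Sheaf.eq_of_locally_eq' (⟨N.presheaf, N.isSheaf⟩ : TopCat.Sheaf Ab T)
      (fun y => V' ⊓ W y) V' (fun y => homOfLE inf_le_left) (fun x hx => Opens.mem_iSup.2 ⟨x, hx, hmem x⟩) n n'
      fun y => (sections_bijective_of_basis hpo (hw := hw) (hz y) inf_le_right).1 _ _ ?_ ?_
    · exact ((resM_pullSec gX inf_le_left n).symm.trans (congrArg _ hX)).trans (resM_pullSec gX inf_le_left n')
    · exact ((resM_pullSec gY inf_le_left n).symm.trans (congrArg _ hY)).trans (resM_pullSec gY inf_le_left n')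
  choose s hsX hsY using fun y => (sections_bijective_of_basis hpo (hw := hw) (hz y) (inf_le_right : V ⊓ W y ≤ W y)).2
    _ _ (hc.restrict inf_le_left)
  obtain ⟨n, hn⟩ : ∃ n : Γ(N, V), ∀ y, resM N (inf_le_left : V ⊓ W y ≤ V) n = s y :=
    (TopCat.Sheaf.existsUnique_gluing' (⟨N.presheaf, N.isSheaf⟩ : TopCat.Sheaf Ab T)
      (fun y => V ⊓ W y) V (fun y => homOfLE inf_le_left) hcov s fun y y' => hinj _ _ _ (by
        show pullSec gX (resM N _ (s y)) = pullSec gX (resM N _ (s y'))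
        rw [← resM_pullSec, ← resM_pullSec, hsX, hsX, resM_resM, resM_resM]) (by
        show pullSec gY (resM N _ (s y)) = pullSec gY (resM N _ (s y'))
        rw [← resM_pullSec, ← resM_pullSec, hsY, hsY, resM_resM, resM_resM])).exists
  have glue : ∀ {P : Scheme.{u}} (g : P ⟶ T) (t : Γ((Scheme.Modules.pullback g).obj N, g ⁻¹ᵁ V)),
      (∀ y, pullSec g (s y) = resM _ (g.preimage_mono inf_le_left) t) → pullSec g n = t := fun {P} g t ht => by
    let F := (Scheme.Modules.pushforward g).obj ((Scheme.Modules.pullback g).obj N)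
    refine TopCat.Sheaf.eq_of_locally_eq' (⟨F.presheaf, F.isSheaf⟩ : TopCat.Sheaf Ab T)
      (fun y => V ⊓ W y) V (fun y => homOfLE inf_le_left) hcov _ _ fun y => ?_
    show resM _ _ (pullSec g n) = resM _ _ t
    exact ((resM_pullSec g inf_le_left n).trans (congrArg (pullSec g) (hn y))).trans (ht y)
  have hX := glue gX a hsX
  have hY := glue gY b hsY
  exact ⟨n, ⟨hX, hY⟩, fun n' hn' => hinj V _ _ (hn'.1.trans hX.symm) (hn'.2.trans hY.symm)⟩

end

end Groth.Agent.PinchSqLib
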