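import Groth.Agent.PinchSqLib.FullFaithful
import Groth.Agent.FlatMor12.FreeCharts
import Groth.Agent.FinCovLib29.Basis
import Groth.Agent.S16030
import Groth.Agent.LocFreeLib.Semilocal
import Groth.Agent.FModLib.Scheme

/-!
# Locally free modules on a pinching from glueing data
-/

set_option autoImplicit false
set_option linter.style.haveILetI false
set_option backward.isDefEq.respectTransparency.types false

universe u

open CategoryTheory CategoryTheory.Limits AlgebraicGeometry Opposite TopologicalSpace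
open Groth.Agent.Coherent Groth.Agent.PicLib

noncomputable section

namespace Groth.Agent.PinchSqLib.Glue

variable {X Z Z' X' : Scheme.{u}} {ι : Z ⟶ X} {q : Z ⟶ Z'} {π : X ⟶ X'} {ι' : Z' ⟶ X'}

section datum

variable (hw : ι ≫ π = q ≫ ι') {LX : X.Modules} {LZ' : Z'.Modules}
  (σ : (Scheme.Modules.pullback ι).obj LX ≅ (Scheme.Modules.pullback q).obj LZ')

include hw in
theorem preimage_eq (V : X'.Opens) : ι ⁻¹ᵁ (π ⁻¹ᵁ V) = q ⁻¹ᵁ (ι' ⁻¹ᵁ V) := by
  rw [← Scheme.Hom.comp_preimage, hw, Scheme.Hom.comp_preimage]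

/-- The common target on `X'`. -/
abbrev tgt (q : Z ⟶ Z') (ι' : Z' ⟶ X') (LZ' : Z'.Modules) : X'.Modules :=
  (Scheme.Modules.pushforward (q ≫ ι')).obj ((Scheme.Modules.pullback q).obj LZ')

/-- Restriction to `Z` from `X`. -/
def mapX : (Scheme.Modules.pushforward π).obj LX ⟶ tgt q ι' LZ' :=
  (Scheme.Modules.pushforward π).map ((Scheme.Modules.pullbackPushforwardAdjunction ι).unit.app LX ≫
      (Scheme.Modules.pushforward ι).map σ.hom) ≫
    (Scheme.Modules.pushforwardComp ι π).hom.app _ ≫ (Scheme.Modules.pushforwardCongr hw).hom.app _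

/-- Restriction to `Z` from `Z'`. -/
def mapZ' : (Scheme.Modules.pushforward ι').obj LZ' ⟶ tgt q ι' LZ' :=
  (Scheme.Modules.pushforward ι').map ((Scheme.Modules.pullbackPushforwardAdjunction q).unit.app LZ') ≫
    (Scheme.Modules.pushforwardComp q ι').hom.app _

/-- The glued module. -/
def mdl : X'.Modules := Limits.pullback (mapX hw σ) (mapZ' (q := q) (ι' := ι') (LZ' := LZ'))

/-- The two sides agree on `Z`. -/
def Agree (V : X'.Opens) (s : Γ(LX, π ⁻¹ᵁ V)) (e : Γ(LZ', ι' ⁻¹ᵁ V)) : Prop :=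
  resM _ (preimage_eq hw V).ge (σ.hom.app _ (pullSec ι s)) = pullSec q e

theorem mapX_app (V : X'.Opens) (s : Γ(LX, π ⁻¹ᵁ V)) :
    (mapX hw σ).app V s = resM _ (preimage_eq hw V).ge (σ.hom.app _ (pullSec ι s)) := rfl

theorem mapZ'_app (V : X'.Opens) (e : Γ(LZ', ι' ⁻¹ᵁ V)) :
    (mapZ' (q := q) (ι' := ι') (LZ' := LZ')).app V e = pullSec q e := rfl

/-- The projection to `X`. -/
def prX : mdl hw σ ⟶ (Scheme.Modules.pushforward π).obj LX := Limits.pullback.fst _ _

/-- The projection to `Z'`. -/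
def prZ' : mdl hw σ ⟶ (Scheme.Modules.pushforward ι').obj LZ' := Limits.pullback.snd _ _

theorem isPullback_sections (V : X'.Opens) :
    IsPullback ((prX hw σ).app V) ((prZ' hw σ).app V) ((mapX hw σ).app V)
      ((mapZ' (q := q) (ι' := ι') (LZ' := LZ')).app V) :=
  haveI h0 : PreservesLimitsOfSize.{0, 0} (Scheme.Modules.toPresheaf X') :=
    preservesLimitsOfSize_shrink.{0, u, 0, u} _
  haveI h1 : PreservesLimitsOfShape WalkingCospan (Scheme.Modules.toPresheaf X') := h0.preservesLimitsOfShape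
  haveI h2 : PreservesLimitsOfShape WalkingCospan ((evaluation (Opens X')ᵒᵖ Ab.{u}).obj (op V)) := inferInstance
  haveI h3 : PreservesLimitsOfShape WalkingCospan
      (Scheme.Modules.toPresheaf X' ⋙ (evaluation (Opens X')ᵒᵖ Ab.{u}).obj (op V)) := comp_preservesLimitsOfShape _ _
  haveI := h3.preservesLimit (K := cospan (mapX hw σ) (mapZ' (q := q) (ι' := ι') (LZ' := LZ')))
  (IsPullback.of_hasPullback (mapX hw σ) (mapZ' (q := q) (ι' := ι') (LZ' := LZ'))).map
    (Scheme.Modules.toPresheaf X' ⋙ (evaluation _ _).obj (op V))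

theorem agree_pr (V : X'.Opens) (m : Γ(mdl hw σ, V)) :
    Agree hw σ V ((prX hw σ).app V m) ((prZ' hw σ).app V m) :=
  ConcreteCategory.congr_hom (isPullback_sections hw σ V).w m

theorem ext_pr (V : X'.Opens) {m m' : Γ(mdl hw σ, V)} (hX : (prX hw σ).app V m = (prX hw σ).app V m')
    (hZ : (prZ' hw σ).app V m = (prZ' hw σ).app V m') : m = m' :=
  (CategoryTheory.Limits.Types.isPullback_iff _ _ _ _).1 ((isPullback_sections hw σ V).map (forget Ab)) |>.2.1
    m m' ⟨hX, hZ⟩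

theorem exists_of_agree (V : X'.Opens) (s : Γ(LX, π ⁻¹ᵁ V)) (e : Γ(LZ', ι' ⁻¹ᵁ V)) (h : Agree hw σ V s e) :
    ∃ m : Γ(mdl hw σ, V), (prX hw σ).app V m = s ∧ (prZ' hw σ).app V m = e :=
  (CategoryTheory.Limits.Types.isPullback_iff _ _ _ _).1 ((isPullback_sections hw σ V).map (forget Ab)) |>.2.2
    s e h

variable (hpo : IsPushout ((Scheme.forgetToLocallyRingedSpace ⋙ LocallyRingedSpace.forgetToSheafedSpace).map ι)
    ((Scheme.forgetToLocallyRingedSpace ⋙ LocallyRingedSpace.forgetToSheafedSpace).map q)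
    ((Scheme.forgetToLocallyRingedSpace ⋙ LocallyRingedSpace.forgetToSheafedSpace).map π)
    ((Scheme.forgetToLocallyRingedSpace ⋙ LocallyRingedSpace.forgetToSheafedSpace).map ι'))

include hpo in
/-- Compatible bases on the two sides glue to a basis. -/
theorem isBasisOn_glue {I : Type u} [Fintype I] {W : X'.Opens} {m : I → Γ(mdl hw σ, W)}
    (hbX : IsBasisOn LX (π ⁻¹ᵁ W) fun i => (prX hw σ).app W (m i))
    (hbZ : IsBasisOn LZ' (ι' ⁻¹ᵁ W) fun i => (prZ' hw σ).app W (m i)) : IsBasisOn (mdl hw σ) W m := by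
  classical
  intro V hV
  have hbq := hbZ.pull q
  let sX : I → Γ(LX, π ⁻¹ᵁ V) := fun i => resM _ (π.preimage_mono hV) ((prX hw σ).app W (m i))
  let sZ : I → Γ(LZ', ι' ⁻¹ᵁ V) := fun i => resM _ (ι'.preimage_mono hV) ((prZ' hw σ).app W (m i))
  have hpX : ∀ c : I → Γ(X', V), (prX hw σ).app V (∑ i, c i • resM _ hV (m i)) =
      ∑ i, π.app V (c i) • sX i := fun c => by
    refine (map_sum ((prX hw σ).app V).hom _ _).trans (Finset.sum_congr rfl fun i _ => ?_)
    refine (Scheme.Modules.Hom.app_smul _ _ _).trans ?_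
    exact congrArg (fun z : Γ(LX, π ⁻¹ᵁ V) => π.app V (c i) • z) (app_resM (prX hw σ) hV (m i))
  have hpZ : ∀ c : I → Γ(X', V), (prZ' hw σ).app V (∑ i, c i • resM _ hV (m i)) =
      ∑ i, ι'.app V (c i) • sZ i := fun c => by
    refine (map_sum ((prZ' hw σ).app V).hom _ _).trans (Finset.sum_congr rfl fun i _ => ?_)
    refine (Scheme.Modules.Hom.app_smul _ _ _).trans ?_
    exact congrArg (fun z : Γ(LZ', ι' ⁻¹ᵁ V) => ι'.app V (c i) • z) (app_resM (prZ' hw σ) hV (m i))
  constructor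
  · intro c c' h
    have hX := congrArg ((prX hw σ).app V) h
    have hZ := congrArg ((prZ' hw σ).app V) h
    rw [hpX, hpX] at hX
    rw [hpZ, hpZ] at hZ
    funext i
    exact app_ext (hw := hw) hpo V (congrFun ((hbX (π.preimage_mono hV)).1 hX) i)
      (congrFun ((hbZ (ι'.preimage_mono hV)).1 hZ) i)
  · intro x
    obtain ⟨α, hα⟩ := (hbX (π.preimage_mono hV)).2 ((prX hw σ).app V x)
    obtain ⟨β, hβ⟩ := (hbZ (ι'.preimage_mono hV)).2 ((prZ' hw σ).app V x)
    have hag := agree_pr hw σ V x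
    have hagi : ∀ i, resM _ (preimage_eq hw V).ge (σ.hom.app _ (pullSec ι (sX i))) = pullSec q (sZ i) := by
      intro i
      have h := agree_pr hw σ V (resM _ hV (m i))
      have e1 : (prX hw σ).app V (resM _ hV (m i)) = sX i := app_resM (prX hw σ) hV (m i)
      have e2 : (prZ' hw σ).app V (resM _ hV (m i)) = sZ i := app_resM (prZ' hw σ) hV (m i)
      rw [e1, e2] at h
      exact h
    have hL : resM _ (preimage_eq hw V).ge (σ.hom.app _ (pullSec ι (∑ i, α i • sX i))) =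
        ∑ i, ι.appLE _ _ (preimage_eq hw V).ge (α i) • pullSec q (sZ i) := by
      refine (congrArg (fun z => resM _ (preimage_eq hw V).ge (σ.hom.app _ z))
        (map_sum (((Scheme.Modules.pullbackPushforwardAdjunction ι).unit.app LX).app _).hom _ _)).trans ?_
      refine ((congrArg (resM _ _) (map_sum (σ.hom.app _).hom _ _)).trans (map_sum _ _ _)).trans
        (Finset.sum_congr rfl fun i _ => ?_)
      refine (congrArg (fun z => resM _ (preimage_eq hw V).ge (σ.hom.app _ z)) (pullSec_smul ι _ _)).trans ?_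
      refine (congrArg (resM _ _) (Scheme.Modules.Hom.app_smul _ _ _)).trans ((resM_smul _ _ _ _).trans ?_)
      exact congrArg₂ (· • ·) rfl (hagi i)
    have hR : pullSec q (∑ i, β i • sZ i) = ∑ i, q.app _ (β i) • pullSec q (sZ i) :=
      (map_sum (((Scheme.Modules.pullbackPushforwardAdjunction q).unit.app LZ').app _).hom _ _).trans
        (Finset.sum_congr rfl fun i _ => pullSec_smul q _ _)
    have hcoef : (fun i => ι.appLE _ _ (preimage_eq hw V).ge (α i)) = fun i => q.app _ (β i) := by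
      refine (hbq (q.preimage_mono (ι'.preimage_mono hV))).1 ?_
      have key : ∑ i, ι.appLE _ _ (preimage_eq hw V).ge (α i) • pullSec q (sZ i) =
          ∑ i, q.app _ (β i) • pullSec q (sZ i) := by
        rw [← hL, ← hR]
        rw [show (∑ i, α i • sX i) = (prX hw σ).app V x from hα,
          show (∑ i, β i • sZ i) = (prZ' hw σ).app V x from hβ]
        exact hag
      simp only [sZ, ← resM_pullSec] at key
      exact key
    choose c hc hcu using fun i => existsUnique_app hpo V (α i) (β i) fun W' h₁ h₂ => by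
      have h := congrArg (fun z => Z.presheaf.map (homOfLE h₂).op z) (congrFun hcoef i)
      change (ι.appLE _ _ (preimage_eq hw V).ge ≫ Z.presheaf.map (homOfLE h₂).op) (α i) =
        (q.app _ ≫ Z.presheaf.map (homOfLE h₂).op) (β i) at h
      rw [Scheme.Hom.appLE_map, Scheme.Hom.app_eq_appLE, Scheme.Hom.appLE_map] at h
      exact h
    refine ⟨c, ext_pr hw σ V ?_ ?_⟩
    · refine ((hpX c).trans ?_).trans hα
      exact Finset.sum_congr rfl fun i _ => by rw [(hc i).1]
    · refine ((hpZ c).trans ?_).trans hβ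
      exact Finset.sum_congr rfl fun i _ => by rw [(hc i).2]

/-- The glued module pulled back to `X`. -/
def toX : (Scheme.Modules.pullback π).obj (mdl hw σ) ⟶ LX :=
  ((Scheme.Modules.pullbackPushforwardAdjunction π).homEquiv _ _).symm (prX hw σ)

/-- The glued module pulled back to `Z'`. -/
def toZ' : (Scheme.Modules.pullback ι').obj (mdl hw σ) ⟶ LZ' :=
  ((Scheme.Modules.pullbackPushforwardAdjunction ι').homEquiv _ _).symm (prZ' hw σ)

theorem compat :
    (Scheme.Modules.pullbackComp ι π).hom.app (mdl hw σ) ≫ (Scheme.Modules.pullbackCongr hw).hom.app _ ≫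
      (Scheme.Modules.pullbackComp q ι').inv.app _ ≫ (Scheme.Modules.pullback q).map (toZ' hw σ) =
    (Scheme.Modules.pullback ι).map (toX hw σ) ≫ σ.hom := by
  refine ((Scheme.Modules.pullbackPushforwardAdjunction ι).homEquiv _ _).injective
    (hom_ext_on_pullSec π fun V m => ?_)
  show ((Scheme.Modules.pullback q).map (toZ' hw σ)).app _
      (((Scheme.Modules.pullbackComp q ι').inv.app _).app _
        (((Scheme.Modules.pullbackCongr hw).hom.app _).app _
          (((Scheme.Modules.pullbackComp ι π).hom.app _).app _ (pullSec ι (pullSec π m))))) =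
    σ.hom.app _ (((Scheme.Modules.pullback ι).map (toX hw σ)).app _ (pullSec ι (pullSec π m)))
  rw [comp_app_pullSec]
  have h1 : ((Scheme.Modules.pullbackCongr hw).hom.app (mdl hw σ)).app (ι ⁻¹ᵁ (π ⁻¹ᵁ V)) (pullSec (ι ≫ π) m) =
      resM _ (preimage_eq hw V).le (pullSec (q ≫ ι') m) :=
    (congrArg _ (resM_self _ _ _).symm).trans
      (congr_app_pullSec hw (mdl hw σ) m (W := ι ⁻¹ᵁ (π ⁻¹ᵁ V)) le_rfl (preimage_eq hw V).le)
  rw [h1, app_resM]
  erw [pullbackComp_inv_app_pullSec q ι']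
  refine Eq.trans (app_resM ((Scheme.Modules.pullback q).map (toZ' hw σ)) _ _) ?_
  erw [map_pullSec q]
  rw [
    show (toZ' hw σ).app (ι' ⁻¹ᵁ V) (pullSec ι' m) = (prZ' hw σ).app V m from
      homEquiv_symm_app_pullSec ι' _ m]
  rw [map_pullSec, show (toX hw σ).app (π ⁻¹ᵁ V) (pullSec π m) = (prX hw σ).app V m from
      homEquiv_symm_app_pullSec π _ m]
  rw [← show resM _ (preimage_eq hw V).ge (σ.hom.app _ (pullSec ι ((prX hw σ).app V m))) =
    pullSec q ((prZ' hw σ).app V m) from agree_pr hw σ V m]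
  exact (resM_resM _ _ _ _).trans (resM_self _ _ _)

/-- A map out of a pullback carrying bases to bases is an isomorphism. -/
theorem isIso_of_bases {Y : Scheme.{u}} (f : Y ⟶ X') {N : Y.Modules} {M : X'.Modules}
    (φ : (Scheme.Modules.pullback f).obj M ⟶ N) {I : Type u} [Fintype I] (W : X' → X'.Opens)
    (hmem : ∀ x, x ∈ W x) (m : ∀ x, I → Γ(M, W x)) (hm : ∀ x, IsBasisOn M (W x) (m x))
    (hN : ∀ x, IsBasisOn N (f ⁻¹ᵁ W x) fun i => φ.app _ (pullSec f (m x i))) : IsIso φ := by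
  refine TwistLib.G.isIso_of_bijective_on_basis φ (fun B => ∃ x, B ≤ f ⁻¹ᵁ W x)
    (fun V y hy => ⟨V ⊓ f ⁻¹ᵁ W (f y), ⟨_, inf_le_right⟩, ⟨hy, hmem (f y)⟩, inf_le_left⟩) ?_
  rintro B ⟨x, hB⟩
  have h1 := (hm x).pull f hB
  have h2 := hN x hB
  refine (Function.Bijective.of_comp_iff _ h1).1 ?_
  convert h2 using 1
  funext c
  refine (map_sum (φ.app B).hom _ _).trans (Finset.sum_congr rfl fun i _ => ?_)
  exact (Scheme.Modules.Hom.app_smul _ _ _).trans (congrArg (c i • ·) (app_resM φ hB _))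

end datum

/-- A basis trivialises the restriction. -/
theorem nonempty_restrict_iso {X : Scheme.{u}} {M : X.Modules} {U : X.Opens} {n : ℕ}
    {e : ULift.{u} (Fin n) → Γ(M, U)} (hb : IsBasisOn M U e) :
    Nonempty (M.restrict U.ι ≅ FlatMod.freeMod U.toScheme n) := by
  refine FlatMor12.FreeCharts.nonempty_iso_freeMod
    (fun i => (M.restrictAppIso U.ι ⊤).inv (resM M (Scheme.Opens.ι_image_top U).le (e i))) fun p =>
      ⟨⊤, trivial, fun W hW => ?_⟩
  have hle : U.ι ''ᵁ W ≤ U := (U.ι.image_mono hW).trans (Scheme.Opens.ι_image_top U).le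
  have hb3 : Function.Bijective fun (c : ULift.{u} (Fin n) → Γ(U.toScheme, W)) i => (U.ι.appIso W).inv (c i) :=
    Function.Bijective.piMap fun _ => ConcreteCategory.bijective_of_isIso (U.ι.appIso W).inv
  have hb2 := ConcreteCategory.bijective_of_isIso (M.restrictAppIso U.ι W).hom
  refine (Function.Bijective.of_comp_iff' hb2 _).1 ?_
  convert (hb hle).comp hb3 using 1
  funext c
  refine (map_sum (M.restrictAppIso U.ι W).hom.hom _ _).trans (Finset.sum_congr rfl fun i _ => ?_)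
  refine (Scheme.Modules.smul_restrictAppIso_hom_apply U.ι M W _ _).trans ?_
  refine congrArg ((U.ι.appIso W).inv (c i) • ·) ?_
  rw [resM_resM]
  exact resM_resM M (Scheme.Opens.ι_image_top U).le (U.ι.image_mono hW) (e i)

/-- A trivialisation gives a basis. -/
theorem exists_isBasisOn_of_iso {N : X.Modules} {n : ℕ} (U₀ : X.Opens)
    (e : N.restrict U₀.ι ≅ FlatMod.freeMod U₀.toScheme n) :
    ∃ b : ULift.{u} (Fin n) → Γ(N, U₀), IsBasisOn N U₀ b := by
  classical
  let ψ := e ≪≫ (Props12.freeModIso U₀.toScheme n).symm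
  let v : ∀ W : U₀.toScheme.Opens, ULift.{u} (Fin n) → Γ(N, U₀.ι ''ᵁ W) := fun W i =>
    (N.restrictAppIso U₀.ι W).hom (unitVal (freeInj i ≫ ψ.inv) W)
  have key : IsBasisOn N (U₀.ι ''ᵁ ⊤) (v ⊤) := fun V hV => by
    obtain ⟨W, rfl⟩ : ∃ W : U₀.toScheme.Opens, U₀.ι ''ᵁ W = V := by
      refine ⟨U₀.ι ⁻¹ᵁ V, ?_⟩
      rw [U₀.ι.image_preimage_eq_opensRange_inf, Scheme.Opens.opensRange_ι, inf_eq_right]
      exact hV.trans (Scheme.Opens.ι_image_top U₀).le
    have hres : ∀ i, resM N hV (v ⊤ i) = v W i := fun i => by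
      show resM N hV ((N.restrictAppIso U₀.ι ⊤).hom (unitVal _ ⊤)) = (N.restrictAppIso U₀.ι W).hom (unitVal _ W)
      rw [← resM_unitVal (freeInj i ≫ ψ.inv) (le_top : W ≤ ⊤)]
      rfl
    have h1 := ConcreteCategory.bijective_of_isIso (U₀.ι.appIso W).hom
    have h2 := (freeSectionsEquiv (X := U₀.toScheme) (I := ULift.{u} (Fin n)) W).symm.bijective
    have h3 := ConcreteCategory.bijective_of_isIso (C := AddCommGrpCat) (ψ.inv.app W)
    have h4 := ConcreteCategory.bijective_of_isIso (N.restrictAppIso U₀.ι W).hom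
    have h1' : Function.Bijective (fun c : ULift.{u} (Fin n) → Γ(X, U₀.ι ''ᵁ W) => fun i => (U₀.ι.appIso W).hom (c i)) :=
      Function.Bijective.piMap fun _ => h1
    convert h4.comp (h3.comp (h2.comp h1')) using 1
    funext c
    simp only [Function.comp_apply, hres]
    rw [freeMod_app, map_sum]
    refine Finset.sum_congr rfl fun i _ => ?_
    refine Eq.trans ?_ (Scheme.Modules.smul_restrictAppIso_hom_apply U₀.ι N W _ _).symm
    congr 1
    show c i = (U₀.ι.appIso W).inv (freeSectionsEquiv W ((freeSectionsEquiv W).symm _) i)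
    rw [LinearEquiv.apply_symm_apply, ← ConcreteCategory.comp_apply, Iso.hom_inv_id]
    rfl
  exact ⟨_, FinCovLib29.isBasisOn_restrict key (Scheme.Opens.ι_image_top U₀).ge⟩


/-- Isomorphisms carry bases to bases. -/
theorem isBasisOn_map_iso {Y : Scheme.{u}} {N N' : Y.Modules} (φ : N ≅ N') {U : Y.Opens} {I : Type u} [Fintype I]
    {e : I → Γ(N, U)} (he : IsBasisOn N U e) : IsBasisOn N' U (fun i => φ.hom.app U (e i)) := fun V hV => by
  convert (ConcreteCategory.bijective_of_isIso (C := AddCommGrpCat) (φ.hom.app V)).comp (he hV) using 1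
  funext c
  rw [Function.comp_apply, map_sum]
  exact Finset.sum_congr rfl fun k _ => by rw [Scheme.Modules.Hom.app_smul, app_resM]

/-- Over a small open, compatible bases exist on the two sides. -/
theorem exists_compat_bases (hw : ι ≫ π = q ≫ ι') [IsClosedImmersion ι] [IsClosedImmersion ι'] [IsFinite q]
    [IsFinite π] (hrange : ∀ x z', π x = ι' z' → ∃ z, ι z = x)
    (hAF : ∀ z' : Z', ∃ U : X.Opens, IsAffineOpen U ∧ ∀ z : Z, q.base z = z' → ι.base z ∈ U)
    (U : X'.Opens) (hU : (U : Set X') = (Set.range ι'.base)ᶜ) (hiso : IsIso (π ∣_ U))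
    {n : ℕ} {LX : X.Modules} {LZ' : Z'.Modules}
    (hLX : FlatMod.IsFinLocFreeOfRank n LX) (hLZ' : FlatMod.IsFinLocFreeOfRank n LZ')
    (σ : (Scheme.Modules.pullback ι).obj LX ≅ (Scheme.Modules.pullback q).obj LZ') (x' : X') :
    ∃ (W : X'.Opens) (s : ULift.{u} (Fin n) → Γ(LX, π ⁻¹ᵁ W)) (e : ULift.{u} (Fin n) → Γ(LZ', ι' ⁻¹ᵁ W)),
      x' ∈ W ∧ IsBasisOn LX (π ⁻¹ᵁ W) s ∧ IsBasisOn LZ' (ι' ⁻¹ᵁ W) e ∧ ∀ i, Agree hw σ W (s i) (e i) := by
  classical
  by_cases hx' : x' ∈ Set.range ι'.base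
  · obtain ⟨z', rfl⟩ := hx'
    obtain ⟨U₀, hU₀, hF₀⟩ := hAF z'
    obtain ⟨V', e, hz', he⟩ := FinCovLib29.exists_isBasisOn_of_rank hLZ' z'
    -- the part of the affine where the basis of `LZ'` is available
    let O : X.Opens := ⟨(ι '' ((q ⁻¹ᵁ V' : Z.Opens) : Set Z)ᶜ)ᶜ,
      (ι.isClosedMap _ (q ⁻¹ᵁ V').isOpen.isClosed_compl).isOpen_compl⟩
    let F : Set X := π ⁻¹' {ι'.base z'}
    have hFfin : F.Finite := π.finite_preimage_singleton _
    have hF : ∀ f ∈ F, ∃ z, ι z = f ∧ q z = z' := fun f hf => by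
      obtain ⟨z, rfl⟩ := hrange f z' hf
      refine ⟨z, rfl, ι'.isClosedEmbedding.injective ?_⟩
      rw [← Scheme.Hom.comp_apply, ← hw, Scheme.Hom.comp_apply]
      exact hf
    have hFU : F ⊆ (U₀ ⊓ O : X.Opens) := fun f hf => by
      obtain ⟨z, rfl, hz⟩ := hF f hf
      refine ⟨hF₀ z hz, ?_⟩
      rintro ⟨z₁, hz₁, h⟩
      rw [ι.isClosedEmbedding.injective h] at hz₁
      exact hz₁ (show q z ∈ V' by rw [hz]; exact hz')
    obtain ⟨g, hg, hgle⟩ : ∃ g : Γ(X, U₀), F ⊆ X.basicOpen g ∧ X.basicOpen g ≤ U₀ ⊓ O := by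
      obtain ⟨a, ha, ha'⟩ := S16030.result Γ(X, U₀) (hU₀.fromSpec ⁻¹' F)
        (hFfin.preimage hU₀.fromSpec.isOpenEmbedding.injective.injOn) (hU₀.fromSpec ⁻¹ᵁ (U₀ ⊓ O)) (fun p hp => hFU hp)
      refine ⟨a, fun f hf => ?_, fun f hf => ?_⟩
      · obtain ⟨p, rfl⟩ := hU₀.range_fromSpec.ge (hFU hf).1
        have h : p ∈ hU₀.fromSpec ⁻¹ᵁ X.basicOpen a := by
          rw [hU₀.fromSpec_preimage_basicOpen]
          exact ha hf
        exact h
      · obtain ⟨p, rfl⟩ := hU₀.range_fromSpec.ge (X.basicOpen_le a hf)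
        have h : p ∈ hU₀.fromSpec ⁻¹ᵁ X.basicOpen a := hf
        rw [hU₀.fromSpec_preimage_basicOpen] at h
        exact ha' h
    let D := X.basicOpen g
    have hD : IsAffineOpen D := hU₀.basicOpen g
    have hDV : ι ⁻¹ᵁ D ≤ q ⁻¹ᵁ V' := fun z hz => by
      by_contra h
      exact (hgle hz).2 ⟨z, h, rfl⟩
    haveI := LocFreeLib.isQCoh_of_isFinLocFreeOfRank hLX
    have hsurj : Function.Surjective (ι.appLE D (ι ⁻¹ᵁ D) le_rfl) := by
      rw [← Scheme.Hom.app_eq_appLE]
      exact ι.app_surjective D hD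
    choose s₀ hs₀ using fun i => FModLib.pullSec_surjective (M := LX) ι hD (hD.preimage ι) le_rfl hsurj
      (σ.inv.app _ (resM _ hDV (pullSec q (e i))))
    simp only [resM_self] at hs₀
    obtain ⟨U₁, hFU₁, hU₁D, -, ⟨ψ⟩⟩ := LocFreeLib.exists_iso_freeMod_basicOpen hLX hD F hFfin hg
    obtain ⟨b, hb⟩ := exists_isBasisOn_of_iso U₁ ψ
    let s₁ : ULift.{u} (Fin n) → Γ(LX, U₁) := fun i => resM _ hU₁D (s₀ i)
    let P : Matrix (ULift.{u} (Fin n)) (ULift.{u} (Fin n)) Γ(X, U₁) :=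
      fun i j => hb.coef le_rfl (s₁ j) i
    have hbι := hb.pull ι
    have hle : ι ⁻¹ᵁ U₁ ≤ q ⁻¹ᵁ V' := (ι.preimage_mono hU₁D).trans hDV
    have hsι : IsBasisOn ((Scheme.Modules.pullback ι).obj LX) (ι ⁻¹ᵁ U₁) fun i => pullSec ι (s₁ i) := by
      have h := isBasisOn_map_iso σ.symm (FinCovLib29.isBasisOn_restrict (he.pull q) hle)
      convert h using 1
      funext i
      show pullSec ι (s₁ i) = σ.inv.app _ (resM _ hle (pullSec q (e i)))
      rw [← resM_pullSec ι hU₁D, hs₀, ← app_resM, resM_resM]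
    let P' : Matrix (ULift.{u} (Fin n)) (ULift.{u} (Fin n)) Γ(Z, ι ⁻¹ᵁ U₁) :=
      fun i j => hbι.coef le_rfl (pullSec ι (s₁ j)) i
    have hPP : P' = (ι.app U₁).hom.mapMatrix P := by
      ext i j
      refine congrFun (hbι.coef_eq le_rfl (c := fun i => ι.app U₁ (P i j)) ?_) i
      conv_rhs => rw [← hb.coef_spec le_rfl (s₁ j)]
      refine Eq.symm ((map_sum (((Scheme.Modules.pullbackPushforwardAdjunction ι).unit.app LX).app _).hom _ _).trans
        (Finset.sum_congr rfl fun k _ => ?_))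
      refine (pullSec_smul ι _ _).trans ?_
      rw [resM_self, resM_self]
    have hdet : IsUnit (P'.det) := by
      let Q' : Matrix (ULift.{u} (Fin n)) (ULift.{u} (Fin n)) Γ(Z, ι ⁻¹ᵁ U₁) :=
        fun i j => hsι.coef le_rfl (pullSec ι (b j)) i
      have h1 : P' * Q' = 1 := by
        ext i k
        have h := hbι.coef_eq le_rfl (x := pullSec ι (b k)) (c := fun i => ∑ j, Q' j k * P' i j) (by
          conv_rhs => rw [← hsι.coef_spec le_rfl (pullSec ι (b k))]
          simp only [Finset.sum_smul, mul_smul]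
          rw [Finset.sum_comm]
          refine Finset.sum_congr rfl fun j _ => ?_
          rw [← Finset.smul_sum]
          refine congrArg (Q' j k • ·) ?_
          refine (hbι.coef_spec le_rfl (pullSec ι (s₁ j))).trans (resM_self _ _ _).symm)
        have h2 := congrFun (hbι.coef_self le_rfl k) i
        rw [resM_self, h] at h2
        rw [Matrix.mul_apply, Matrix.one_apply]
        simpa [mul_comm] using h2
      exact IsUnit.of_mul_eq_one _ (by rw [← Matrix.det_mul, h1, Matrix.det_one])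
    let D' : X.Opens := X.basicOpen P.det
    have hD'U : D' ≤ U₁ := X.basicOpen_le _
    have hFD' : F ⊆ D' := fun f hf => by
      obtain ⟨z, rfl, -⟩ := hF f hf
      have h : z ∈ ι ⁻¹ᵁ X.basicOpen P.det := by
        rw [Scheme.preimage_basicOpen, RingHom.map_det, ← hPP, Scheme.basicOpen_of_isUnit _ hdet]
        exact hFU₁ hf
      exact h
    have hsD' : IsBasisOn LX D' fun i => resM _ hD'U (s₁ i) := by
      refine FlatMor12.FreeCharts.isBasisOn_of_matrix hD'U hb _ (P.map (X.presheaf.map (homOfLE hD'U).op).hom)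
        (fun j => ?_) ?_
      · conv_lhs => rw [← hb.coef_spec le_rfl (s₁ j)]
        rw [map_sum]
        refine Finset.sum_congr rfl fun k _ => ?_
        rw [resM_smul, resM_resM]
        rfl
      · rw [← RingHom.mapMatrix_apply, ← RingHom.map_det]
        exact RingedSpace.isUnit_res_basicOpen _ _
    let W : X'.Opens := ⟨(π '' (D' : Set X)ᶜ)ᶜ ⊓ (ι' '' (V' : Set Z')ᶜ)ᶜ,
      (π.isClosedMap _ D'.isOpen.isClosed_compl).isOpen_compl.inter
        (ι'.isClosedMap _ V'.isOpen.isClosed_compl).isOpen_compl⟩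
    have hWD : π ⁻¹ᵁ W ≤ D' := fun x hx => by
      by_contra h
      exact hx.1 ⟨x, h, rfl⟩
    have hWV : ι' ⁻¹ᵁ W ≤ V' := fun x hx => by
      by_contra h
      exact hx.2 ⟨x, h, rfl⟩
    refine ⟨W, fun i => resM _ hWD (resM _ hD'U (s₁ i)), fun i => resM _ hWV (e i),
      ⟨?_, ?_⟩, FinCovLib29.isBasisOn_restrict hsD' hWD, FinCovLib29.isBasisOn_restrict he hWV, fun i => ?_⟩
    · rintro ⟨x, hx, h⟩
      exact hx (hFD' h)
    · rintro ⟨x, hx, h⟩
      rw [ι'.isClosedEmbedding.injective h] at hx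
      exact hx hz'
    · show resM _ _ (σ.hom.app _ (pullSec ι (resM _ hWD (resM _ hD'U (resM _ hU₁D (s₀ i)))))) = pullSec q (resM _ hWV (e i))
      rw [resM_resM, resM_resM, ← resM_pullSec ι, hs₀, app_resM, resM_resM, ← resM_pullSec q]
      rw [show σ.hom.app (ι ⁻¹ᵁ D) (σ.inv.app _ (resM _ hDV (pullSec q (e i)))) = resM _ hDV (pullSec q (e i)) from
        congrArg (fun k : (Scheme.Modules.pullback q).obj LZ' ⟶ (Scheme.Modules.pullback q).obj LZ' =>
          k.app (ι ⁻¹ᵁ D) (resM _ hDV (pullSec q (e i)))) σ.inv_hom_id, resM_resM]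
  · have hx'U : x' ∈ U := by
      show x' ∈ (U : Set X')
      rw [hU]; exact hx'
    obtain ⟨⟨x, hxU⟩, hx⟩ := (ConcreteCategory.bijective_of_isIso (π ∣_ U).base).2 ⟨x', hx'U⟩
    have hπx : π x = x' := by simpa [morphismRestrict_base] using congrArg Subtype.val hx
    obtain ⟨A, s, hxA, hs⟩ := FinCovLib29.exists_isBasisOn_of_rank hLX x
    let W : X'.Opens := U ⊓ ⟨(π '' (A : Set X)ᶜ)ᶜ, (π.isClosedMap _ A.isOpen.isClosed_compl).isOpen_compl⟩
    have hWA : π ⁻¹ᵁ W ≤ A := fun y hy => by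
      by_contra h
      exact hy.2 ⟨y, h, rfl⟩
    have hZ' : ι' ⁻¹ᵁ W = ⊥ := le_bot_iff.1 fun y hy => by
      have h : ι' y ∈ (U : Set X') := hy.1
      rw [hU] at h
      exact (h ⟨y, rfl⟩).elim
    have hZ : q ⁻¹ᵁ (ι' ⁻¹ᵁ W) = ⊥ := by rw [hZ']; rfl
    refine ⟨W, fun i => resM _ hWA (s i), 0, ⟨hx'U, ?_⟩, FinCovLib29.isBasisOn_restrict hs hWA, ?_, fun i => ?_⟩
    · rintro ⟨y, hy, h⟩
      have hyU : y ∈ π ⁻¹ᵁ U := by
        show π y ∈ U
        rw [h]; exact hx'U
      have : (⟨y, hyU⟩ : (π ⁻¹ᵁ U).toScheme) = ⟨x, hxU⟩ :=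
        (ConcreteCategory.bijective_of_isIso (π ∣_ U).base).1
          (Subtype.ext (by simpa [morphismRestrict_base] using h.trans hπx.symm))
      exact hy ((show y = x from congrArg Subtype.val this).symm ▸ hxA)
    · intro V hV
      obtain rfl : V = ⊥ := le_bot_iff.1 (hV.trans hZ'.le)
      haveI : Subsingleton Γ(Z', (⊥ : Z'.Opens)) := inferInstance
      haveI : Subsingleton Γ(LZ', (⊥ : Z'.Opens)) := Module.subsingleton Γ(Z', (⊥ : Z'.Opens)) _
      exact ⟨fun a b _ => Subsingleton.elim _ _, fun y => ⟨0, Subsingleton.elim _ _⟩⟩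
    · unfold Agree
      haveI : Subsingleton Γ(Z, q ⁻¹ᵁ (ι' ⁻¹ᵁ W)) := by rw [hZ]; infer_instance
      haveI : Subsingleton Γ((Scheme.Modules.pullback q).obj LZ', q ⁻¹ᵁ (ι' ⁻¹ᵁ W)) :=
        Module.subsingleton Γ(Z, q ⁻¹ᵁ (ι' ⁻¹ᵁ W)) _
      exact Subsingleton.elim _ _

end Groth.Agent.PinchSqLib.Glue
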