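import Groth.Agent.HenselLib.MilnorGlue
import Groth.Agent.S14949
import Groth.Agent.S14952
import Groth.Agent.S14953
import Groth.Agent.S14954
import Mathlib.RingTheory.Ideal.Quotient.Operations

/-! Descent along a pinched square of rings. -/

set_option autoImplicit false
universe u
open TensorProduct

namespace Groth.Agent.PinchSqLib

variable (R B A : Type u) [CommRing R] [CommRing B] [CommRing A] [Algebra R B] [Algebra R A]

/-- `A` is `R` modulo an ideal `I`, `R → B` is injective on `I`, and `IB` is the image of `I`. -/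
structure IsPinch : Prop where
  surj : Function.Surjective (algebraMap R A)
  inj : RingHom.ker (algebraMap R B) ⊓ RingHom.ker (algebraMap R A) = ⊥
  ideal : ∀ b ∈ Ideal.map (algebraMap R B) (RingHom.ker (algebraMap R A)),
    ∃ i ∈ RingHom.ker (algebraMap R A), algebraMap R B i = b

variable {R B A}

/-- The fourth corner. -/
abbrev Corner (R B A : Type u) [CommRing R] [CommRing B] [CommRing A] [Algebra R B] [Algebra R A] : Type u :=
  B ⧸ Ideal.map (algebraMap R B) (RingHom.ker (algebraMap R A))

/-- `A → B ⧸ IB`. -/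
noncomputable def cornerMap (h : IsPinch R B A) : A →+* Corner R B A :=
  RingHom.liftOfSurjective (algebraMap R A) h.surj ⟨(Ideal.Quotient.mk _).comp (algebraMap R B), fun r hr => by
    rw [RingHom.mem_ker, RingHom.comp_apply, Ideal.Quotient.eq_zero_iff_mem]
    exact Ideal.mem_map_of_mem _ hr⟩

theorem cornerMap_apply (h : IsPinch R B A) (r : R) :
    cornerMap h (algebraMap R A r) = Ideal.Quotient.mk _ (algebraMap R B r) :=
  RingHom.liftOfRightInverse_comp_apply _ _ _ _ r

theorem corner_comm (h : IsPinch R B A) :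
    letI := (cornerMap h).toAlgebra
    IsScalarTower R A (Corner R B A) :=
  letI := (cornerMap h).toAlgebra
  IsScalarTower.of_algebraMap_eq fun r => (cornerMap_apply h r).symm

theorem isFibreSquare (h : IsPinch R B A) :
    letI := (cornerMap h).toAlgebra
    haveI := corner_comm h
    EtMil.IsFibreSquare R A B (Corner R B A) := by
  letI := (cornerMap h).toAlgebra
  haveI := corner_comm h
  refine ⟨Ideal.Quotient.mk_surjective, fun a b hab => ?_⟩
  obtain ⟨r, rfl⟩ := h.surj a
  have hmem : algebraMap R B r - b ∈ Ideal.map (algebraMap R B) (RingHom.ker (algebraMap R A)) := by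
    rw [← Ideal.Quotient.eq]
    exact (cornerMap_apply h r).symm.trans hab
  obtain ⟨i, hi, hib⟩ := h.ideal _ hmem
  refine ⟨r - i, ⟨by rw [map_sub, RingHom.mem_ker.1 hi, sub_zero], by rw [map_sub, hib, sub_sub_cancel]⟩, ?_⟩
  rintro z ⟨hz1, hz2⟩
  have hk : z - (r - i) ∈ RingHom.ker (algebraMap R B) ⊓ RingHom.ker (algebraMap R A) := by
    refine ⟨?_, ?_⟩
    · rw [SetLike.mem_coe, RingHom.mem_ker, map_sub, map_sub, hz2, hib, sub_sub_cancel, sub_self]
    · rw [SetLike.mem_coe, RingHom.mem_ker, map_sub, map_sub, hz1, RingHom.mem_ker.1 hi, sub_zero, sub_self]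
  rw [h.inj, Ideal.mem_bot, sub_eq_zero] at hk
  exact hk

variable (M : Type u) [AddCommGroup M] [Module R M]

theorem subsingleton_of_pinch (h : IsPinch R B A) [Subsingleton (B ⊗[R] M)] [Subsingleton (A ⊗[R] M)] :
    Subsingleton M :=
  letI := (cornerMap h).toAlgebra
  haveI := corner_comm h
  Groth.Agent.S14949.result R A B (Corner R B A) (isFibreSquare h) M

theorem flat_of_pinch (h : IsPinch R B A) [Module.Flat B (B ⊗[R] M)] [Module.Flat A (A ⊗[R] M)] :
    Module.Flat R M :=
  letI := (cornerMap h).toAlgebra
  haveI := corner_comm h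
  Groth.Agent.S14952.result R A B (Corner R B A) (isFibreSquare h) M

theorem finite_of_pinch (h : IsPinch R B A) [Module.Finite B (B ⊗[R] M)] [Module.Finite A (A ⊗[R] M)] :
    Module.Finite R M :=
  letI := (cornerMap h).toAlgebra
  haveI := corner_comm h
  Groth.Agent.S14953.result R A B (Corner R B A) (isFibreSquare h) M

theorem finitePresentation_of_pinch (h : IsPinch R B A) [Module.Flat B (B ⊗[R] M)]
    [Module.FinitePresentation B (B ⊗[R] M)] [Module.Flat A (A ⊗[R] M)]
    [Module.FinitePresentation A (A ⊗[R] M)] : Module.FinitePresentation R M :=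
  letI := (cornerMap h).toAlgebra
  haveI := corner_comm h
  Groth.Agent.S14954.result R A B (Corner R B A) (isFibreSquare h) M

end Groth.Agent.PinchSqLib
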