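import Groth.Agent.PinchSqLib.Ring
import Groth.Agent.Props12.TildeFin
import Groth.Agent.EGA43.InjFibre.Scheme
import Groth.Agent.Flatn12.PullbackSections
import Groth.Agent.Coherent.FiniteType

/-! Descent of properties of quasi-coherent modules along pinching squares. -/

set_option autoImplicit false
set_option linter.style.haveILetI false
universe u

open CategoryTheory CategoryTheory.Limits AlgebraicGeometry Opposite TopologicalSpace TensorProduct

namespace Groth.Agent.PinchSqLib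

variable {X Y : Scheme.{u}} (f : X ⟶ Y) (G : Y.Modules) [Coh.IsQCoh G]

/-- Sections of a pullback over the preimage of an affine open. -/
theorem nonempty_pull_equiv [IsAffineHom f] {V : Y.Opens} (hV : IsAffineOpen V) :
    letI := (f.app V).hom.toAlgebra
    Nonempty (TensorProduct Γ(Y, V) Γ(X, f ⁻¹ᵁ V) Γ(G, V) ≃ₗ[Γ(X, f ⁻¹ᵁ V)]
      Γ((Scheme.Modules.pullback f).obj G, f ⁻¹ᵁ V)) := by
  rw [Scheme.Hom.app_eq_appLE]
  exact Flatn12.nonempty_pullback_sections_equiv f G hV (hV.preimage f) le_rfl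

theorem flat_pull_sections [IsAffineHom f] (h : FlatMod.IsFlat ((Scheme.Modules.pullback f).obj G))
    {V : Y.Opens} (hV : IsAffineOpen V) :
    letI := (f.app V).hom.toAlgebra
    Module.Flat Γ(X, f ⁻¹ᵁ V) (TensorProduct Γ(Y, V) Γ(X, f ⁻¹ᵁ V) Γ(G, V)) := by
  letI := (f.app V).hom.toAlgebra
  haveI := EGA43.InjFibre.isQCoh_pullback f G
  obtain ⟨e⟩ := nonempty_pull_equiv f G hV
  haveI := Props12.flat_sections_of_isFlat _ h (hV.preimage f)
  exact Module.Flat.of_linearEquiv e

theorem fp_pull_sections [IsAffineHom f] (h : CohB1.IsFP ((Scheme.Modules.pullback f).obj G))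
    {V : Y.Opens} (hV : IsAffineOpen V) :
    letI := (f.app V).hom.toAlgebra
    Module.FinitePresentation Γ(X, f ⁻¹ᵁ V) (TensorProduct Γ(Y, V) Γ(X, f ⁻¹ᵁ V) Γ(G, V)) := by
  letI := (f.app V).hom.toAlgebra
  haveI := EGA43.InjFibre.isQCoh_pullback f G
  obtain ⟨e⟩ := nonempty_pull_equiv f G hV
  haveI := EGA43.QcohFP.finitePresentation_sections _ h (hV.preimage f)
  exact (Module.FinitePresentation.of_equiv e.symm :)

theorem finite_pull_sections [IsAffineHom f] (h : CohB1.IsFT ((Scheme.Modules.pullback f).obj G))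
    {V : Y.Opens} (hV : IsAffineOpen V) :
    letI := (f.app V).hom.toAlgebra
    Module.Finite Γ(X, f ⁻¹ᵁ V) (TensorProduct Γ(Y, V) Γ(X, f ⁻¹ᵁ V) Γ(G, V)) := by
  letI := (f.app V).hom.toAlgebra
  haveI := EGA43.InjFibre.isQCoh_pullback f G
  obtain ⟨e⟩ := nonempty_pull_equiv f G hV
  haveI := Coherent.finite_sections _ (Coherent.locallyFinGen_of_isFT _ h) (hV.preimage f)
  exact Module.Finite.equiv e.symm

theorem isFlat_pull [IsAffineHom f] (h : FlatMod.IsFlat G) :
    FlatMod.IsFlat ((Scheme.Modules.pullback f).obj G) := by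
  haveI := EGA43.InjFibre.isQCoh_pullback f G
  intro x
  obtain ⟨V, hV, hxV, -⟩ := Opens.isBasis_iff_nbhd.mp Y.isBasis_affineOpens (Opens.mem_top (f x))
  letI := (f.app V).hom.toAlgebra
  haveI := Props12.flat_sections_of_isFlat G h hV
  obtain ⟨e⟩ := nonempty_pull_equiv f G hV
  haveI : Module.Flat Γ(X, f ⁻¹ᵁ V) Γ((Scheme.Modules.pullback f).obj G, f ⁻¹ᵁ V) :=
    Module.Flat.of_linearEquiv e.symm
  exact Props12.flat_stalk_of_flat_sections _ (hV.preimage f) hxV

theorem isFP_pull [IsAffineHom f] (h : CohB1.IsFP G) :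
    CohB1.IsFP ((Scheme.Modules.pullback f).obj G) := by
  haveI := EGA43.InjFibre.isQCoh_pullback f G
  refine EGA43.FPKernel.isFP_of_forall_exists_affine _ fun x => ?_
  obtain ⟨V, hV, hxV, -⟩ := Opens.isBasis_iff_nbhd.mp Y.isBasis_affineOpens (Opens.mem_top (f x))
  letI := (f.app V).hom.toAlgebra
  haveI := EGA43.QcohFP.finitePresentation_sections G h hV
  obtain ⟨e⟩ := nonempty_pull_equiv f G hV
  exact ⟨f ⁻¹ᵁ V, hV.preimage f, hxV, (Module.FinitePresentation.of_equiv e :)⟩

theorem isFT_pull [IsAffineHom f] (h : CohB1.IsFT G) :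
    CohB1.IsFT ((Scheme.Modules.pullback f).obj G) := by
  haveI := EGA43.InjFibre.isQCoh_pullback f G
  refine Coherent.isFT_of_locallyFinGen (Coherent.locallyFinGen_of_finite_sections _
    (fun V : Y.affineOpens => f ⁻¹ᵁ V.1) (fun V => V.2.preimage f) (fun x => ?_) fun V => ?_)
  · obtain ⟨V, hV, hxV, -⟩ := Opens.isBasis_iff_nbhd.mp Y.isBasis_affineOpens (Opens.mem_top (f x))
    exact ⟨⟨V, hV⟩, hxV⟩
  · letI := (f.app V.1).hom.toAlgebra
    haveI := Coherent.finite_sections G (Coherent.locallyFinGen_of_isFT G h) V.2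
    obtain ⟨e⟩ := nonempty_pull_equiv f G V.2
    exact Module.Finite.equiv e

theorem free_stalk_of_isFP_of_isFlat (h₁ : CohB1.IsFP G) (h₂ : FlatMod.IsFlat G) (y : Y) :
    Module.Free (Y.presheaf.stalk y) (G.presheaf.stalk y) := by
  haveI : Module.Flat (Y.presheaf.stalk y) (G.presheaf.stalk y) := h₂ y
  haveI : SheafOfModules.IsFinitePresentation.{u} (R := Y.ringCatSheaf) G := h₁
  haveI := Props12.finite_stalk_of_isFT G (inferInstanceAs (SheafOfModules.IsFiniteType.{u} (R := Y.ringCatSheaf) G)) y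
  exact Module.free_of_flat_of_isLocalRing

section Pinch

variable {Y' : Scheme.{u}} (u : Y' ⟶ Y) [IsAffineHom f] [IsClosedImmersion u]

/-- The pinching condition. -/
def PinchCond : Prop :=
  ∀ V ∈ Y.affineOpens,
    RingHom.ker (f.app V).hom ⊓ RingHom.ker (u.app V).hom = ⊥ ∧
    ∀ a ∈ Ideal.map (f.app V).hom (RingHom.ker (u.app V).hom),
      ∃ i ∈ RingHom.ker (u.app V).hom, (f.app V).hom i = a

variable {f u}

theorem isPinch_app (hM : PinchCond f u) {V : Y.Opens} (hV : IsAffineOpen V) :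
    letI := (f.app V).hom.toAlgebra
    letI := (u.app V).hom.toAlgebra
    IsPinch Γ(Y, V) Γ(X, f ⁻¹ᵁ V) Γ(Y', u ⁻¹ᵁ V) :=
  letI := (f.app V).hom.toAlgebra
  letI := (u.app V).hom.toAlgebra
  ⟨u.app_surjective V hV, (hM V hV).1, (hM V hV).2⟩

theorem isFlat_iff_pinch (hM : PinchCond f u) :
    FlatMod.IsFlat G ↔ FlatMod.IsFlat ((Scheme.Modules.pullback u).obj G) ∧
      FlatMod.IsFlat ((Scheme.Modules.pullback f).obj G) := by
  refine ⟨fun h => ⟨isFlat_pull u G h, isFlat_pull f G h⟩, fun h y => ?_⟩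
  obtain ⟨V, hV, hyV, -⟩ := Opens.isBasis_iff_nbhd.mp Y.isBasis_affineOpens (Opens.mem_top y)
  letI := (f.app V).hom.toAlgebra
  letI := (u.app V).hom.toAlgebra
  haveI := flat_pull_sections f G h.2 hV
  haveI := flat_pull_sections u G h.1 hV
  haveI := flat_of_pinch Γ(G, V) (isPinch_app hM hV)
  exact Props12.flat_stalk_of_flat_sections G hV hyV

theorem isFT_iff_pinch (hM : PinchCond f u) :
    CohB1.IsFT G ↔ CohB1.IsFT ((Scheme.Modules.pullback u).obj G) ∧
      CohB1.IsFT ((Scheme.Modules.pullback f).obj G) := by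
  refine ⟨fun h => ⟨isFT_pull u G h, isFT_pull f G h⟩, fun h =>
    Coherent.isFT_of_locallyFinGen (Coherent.locallyFinGen_of_finite_sections G
      (fun V : Y.affineOpens => V.1) (fun V => V.2) (fun y => ?_) fun V => ?_)⟩
  · obtain ⟨V, hV, hyV, -⟩ := Opens.isBasis_iff_nbhd.mp Y.isBasis_affineOpens (Opens.mem_top y)
    exact ⟨⟨V, hV⟩, hyV⟩
  · letI := (f.app V.1).hom.toAlgebra
    letI := (u.app V.1).hom.toAlgebra
    haveI := finite_pull_sections f G h.2 V.2
    haveI := finite_pull_sections u G h.1 V.2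
    exact finite_of_pinch Γ(G, V.1) (isPinch_app hM V.2)

theorem isFinLocFree_iff_pinch (hM : PinchCond f u) :
    FlatMod.IsFinLocFree G ↔ FlatMod.IsFinLocFree ((Scheme.Modules.pullback u).obj G) ∧
      FlatMod.IsFinLocFree ((Scheme.Modules.pullback f).obj G) := by
  haveI := EGA43.InjFibre.isQCoh_pullback f G
  haveI := EGA43.InjFibre.isQCoh_pullback u G
  constructor
  · intro h
    have h₁ := Props12.isFP_of_isFinLocFree G h
    have h₂ := Props12.isFlat_of_isFinLocFree G h
    exact ⟨Props12.isFinLocFree_of_isFP_of_free_stalks _ (isFP_pull u G h₁)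
        (free_stalk_of_isFP_of_isFlat _ (isFP_pull u G h₁) (isFlat_pull u G h₂)),
      Props12.isFinLocFree_of_isFP_of_free_stalks _ (isFP_pull f G h₁)
        (free_stalk_of_isFP_of_isFlat _ (isFP_pull f G h₁) (isFlat_pull f G h₂))⟩
  · rintro ⟨hu, hf⟩
    have hflat := (isFlat_iff_pinch G hM).2
      ⟨Props12.isFlat_of_isFinLocFree _ hu, Props12.isFlat_of_isFinLocFree _ hf⟩
    have hfp : CohB1.IsFP G := EGA43.FPKernel.isFP_of_forall_exists_affine G fun y => by
      obtain ⟨V, hV, hyV, -⟩ := Opens.isBasis_iff_nbhd.mp Y.isBasis_affineOpens (Opens.mem_top y)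
      letI := (f.app V).hom.toAlgebra
      letI := (u.app V).hom.toAlgebra
      haveI := flat_pull_sections f G (Props12.isFlat_of_isFinLocFree _ hf) hV
      haveI := flat_pull_sections u G (Props12.isFlat_of_isFinLocFree _ hu) hV
      haveI := fp_pull_sections f G (Props12.isFP_of_isFinLocFree _ hf) hV
      haveI := fp_pull_sections u G (Props12.isFP_of_isFinLocFree _ hu) hV
      exact ⟨V, hV, hyV, finitePresentation_of_pinch Γ(G, V) (isPinch_app hM hV)⟩
    exact Props12.isFinLocFree_of_isFP_of_free_stalks G hfp (free_stalk_of_isFP_of_isFlat G hfp hflat)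

theorem isZero_of_pinch (hM : PinchCond f u) (h₁ : IsZero ((Scheme.Modules.pullback u).obj G))
    (h₂ : IsZero ((Scheme.Modules.pullback f).obj G)) : IsZero G := by
  have hsub : ∀ {W : Scheme.{u}} {N : W.Modules}, IsZero N → ∀ U : W.Opens, Subsingleton Γ(N, U) :=
    fun {W N} h U => ⟨fun a b => by
      have h0 := (IsZero.iff_id_eq_zero N).1 h
      exact (ConcreteCategory.congr_hom (congrArg (fun φ => Scheme.Modules.Hom.app φ U) h0) a).trans
        (ConcreteCategory.congr_hom (congrArg (fun φ => Scheme.Modules.Hom.app φ U) h0) b).symm⟩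
  rw [IsZero.iff_id_eq_zero]
  ext U s
  change s = (0 : Γ(G, U))
  refine Props12.eq_of_nhds G s 0 fun y hy => ?_
  obtain ⟨V, hV, hyV, hVU⟩ := Opens.isBasis_iff_nbhd.mp Y.isBasis_affineOpens hy
  letI := (f.app V).hom.toAlgebra
  letI := (u.app V).hom.toAlgebra
  obtain ⟨e⟩ := nonempty_pull_equiv f G hV
  obtain ⟨e'⟩ := nonempty_pull_equiv u G hV
  haveI := hsub h₂ (f ⁻¹ᵁ V)
  haveI := hsub h₁ (u ⁻¹ᵁ V)
  haveI := e.toEquiv.subsingleton
  haveI := e'.toEquiv.subsingleton
  haveI := subsingleton_of_pinch Γ(G, V) (isPinch_app hM hV)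
  exact ⟨V, hVU, hyV, Subsingleton.elim _ _⟩

end Pinch

end Groth.Agent.PinchSqLib
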