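import Mathlib.AlgebraicGeometry.Scheme
import Mathlib.Geometry.RingedSpace.PresheafedSpace.HasColimits
import Mathlib.CategoryTheory.Limits.Shapes.Pullback.IsPullback.Basic

/-!
# Sections of the structure sheaf on a pushout of ringed spaces
-/

set_option autoImplicit false
set_option backward.isDefEq.respectTransparency.types false
set_option backward.isDefEq.respectTransparency false

universe u

open CategoryTheory CategoryTheory.Limits AlgebraicGeometry Opposite TopologicalSpace

noncomputable section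

namespace Groth.Agent.PinchSqLib

theorem congr_c_app_apply {A B : PresheafedSpace.{u, u + 1, u} CommRingCat.{u}} {g g' : A ⟶ B} (e : g = g')
    (U : Opens B.carrier) (t : B.presheaf.obj (op U))
    (h : (Opens.map g'.base).obj U ≤ (Opens.map g.base).obj U) :
    A.presheaf.map (homOfLE h).op (g.c.app (op U) t) = g'.c.app (op U) t := by
  subst e
  simp [Subsingleton.elim (homOfLE h).op (𝟙 _)]

theorem map_map_apply {A : PresheafedSpace.{u, u + 1, u} CommRingCat.{u}} {U V W : Opens A.carrier}
    (i : op U ⟶ op V) (j : op V ⟶ op W) (k : op U ⟶ op W) (t : A.presheaf.obj (op U)) :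
    A.presheaf.map j (A.presheaf.map i t) = A.presheaf.map k t := by
  rw [← CommRingCat.comp_apply, ← A.presheaf.map_comp, Subsingleton.elim (i ≫ j) k]

/-- Pairs of sections on the two sides agreeing on the corner glue uniquely. -/
theorem existsUnique_sections {Z X Y T : PresheafedSpace.{u, u + 1, u} CommRingCat.{u}} {f : Z ⟶ X} {g : Z ⟶ Y}
    {a : X ⟶ T} {b : Y ⟶ T} (hpo : IsPushout f g a b) (V : Opens T.carrier)
    (x : X.presheaf.obj (op ((Opens.map a.base).obj V))) (y : Y.presheaf.obj (op ((Opens.map b.base).obj V)))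
    (hxy : ∀ (W : Opens Z.carrier) (h₁ : W ≤ (Opens.map f.base).obj ((Opens.map a.base).obj V))
      (h₂ : W ≤ (Opens.map g.base).obj ((Opens.map b.base).obj V)),
      Z.presheaf.map (homOfLE h₁).op (f.c.app _ x) = Z.presheaf.map (homOfLE h₂).op (g.c.app _ y)) :
    ∃! t : T.presheaf.obj (op V), a.c.app _ t = x ∧ b.c.app _ t = y := by
  let F := span f g
  haveI : HasColimit F := ⟨⟨⟨_, hpo.isColimit⟩⟩⟩
  let e : colimit F ≅ T := colimit.isoColimitCocone ⟨_, hpo.isColimit⟩
  have he : ∀ j, colimit.ι F j ≫ e.hom = (hpo.cocone).ι.app j := fun j =>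
    colimit.isoColimitCocone_ι_hom ⟨_, hpo.isColimit⟩ j
  have hl : colimit.ι F WalkingSpan.left ≫ e.hom = a := (he _).trans (by simp)
  have hr : colimit.ι F WalkingSpan.right ≫ e.hom = b := (he _).trans (by simp)
  let U : Opens (colimit F).carrier := (Opens.map e.hom.base).obj V
  have hbij : Function.Bijective (e.hom.c.app (op V)) := by
    haveI : IsIso e.hom.c := PresheafedSpace.c_isIso_of_iso _
    exact ConcreteCategory.bijective_of_isIso (e.hom.c.app (op V))
  let D := PresheafedSpace.componentwiseDiagram F U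
  let φ := PresheafedSpace.colimitPresheafObjIsoComponentwiseLimit F U
  have hφ : ∀ (j : WalkingSpan) (s : (colimit F).presheaf.obj (op U)),
      limit.π D (op j) (φ.hom s) = (colimit.ι F j).c.app (op U) s := fun j s =>
    ConcreteCategory.congr_hom (PresheafedSpace.colimitPresheafObjIsoComponentwiseLimit_hom_π F U j) s
  have hla : (Opens.map a.base).obj V = (Opens.map (colimit.ι F WalkingSpan.left).base).obj U := by
    rw [← hl]; rfl
  have hlb : (Opens.map b.base).obj V = (Opens.map (colimit.ι F WalkingSpan.right).base).obj U := by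
    rw [← hr]; rfl
  have kl : ∀ t : T.presheaf.obj (op V),
      X.presheaf.map (homOfLE hla.le).op ((colimit.ι F WalkingSpan.left).c.app (op U) (e.hom.c.app (op V) t)) =
        a.c.app (op V) t := fun t => congr_c_app_apply hl V t hla.le
  have kr : ∀ t : T.presheaf.obj (op V),
      Y.presheaf.map (homOfLE hlb.le).op ((colimit.ι F WalkingSpan.right).c.app (op U) (e.hom.c.app (op V) t)) =
        b.c.app (op V) t := fun t => congr_c_app_apply hr V t hlb.le
  have hz₁ : (Opens.map (colimit.ι F WalkingSpan.zero).base).obj U ≤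
      (Opens.map f.base).obj ((Opens.map a.base).obj V) := by
    rw [hla, ← colimit.w F WalkingSpan.Hom.fst]; rfl
  have hz₂ : (Opens.map (colimit.ι F WalkingSpan.zero).base).obj U ≤
      (Opens.map g.base).obj ((Opens.map b.base).obj V) := by
    rw [hlb, ← colimit.w F WalkingSpan.Hom.snd]; rfl
  let sz : Z.presheaf.obj (op ((Opens.map (colimit.ι F WalkingSpan.zero).base).obj U)) :=
    Z.presheaf.map (homOfLE hz₁).op (f.c.app _ x)
  let fam : ∀ j, D.obj j := fun j => match j with
    | ⟨none⟩ => sz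
    | ⟨some WalkingPair.left⟩ => X.presheaf.map (homOfLE hla.ge).op x
    | ⟨some WalkingPair.right⟩ => Y.presheaf.map (homOfLE hlb.ge).op y
  have hfam : ∀ {j k} (h : j ⟶ k), D.map h (fam j) = fam k := by
    rintro ⟨j⟩ ⟨k⟩ h
    obtain ⟨h⟩ := h
    rcases h with _ | ⟨_ | _⟩
    · exact ConcreteCategory.congr_hom (D.map_id (op j)) (fam (op j))
    · show Z.presheaf.map _ (f.c.app _ (X.presheaf.map (homOfLE hla.ge).op x)) = sz
      rw [show f.c.app _ (X.presheaf.map (homOfLE hla.ge).op x) = _ from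
        ConcreteCategory.congr_hom (f.c.naturality (homOfLE hla.ge).op) x]
      exact map_map_apply _ _ _ _
    · show Z.presheaf.map _ (g.c.app _ (Y.presheaf.map (homOfLE hlb.ge).op y)) = sz
      rw [show g.c.app _ (Y.presheaf.map (homOfLE hlb.ge).op y) = _ from
        ConcreteCategory.congr_hom (g.c.naturality (homOfLE hlb.ge).op) y]
      exact (map_map_apply _ _ (homOfLE hz₂).op _).trans (hxy _ hz₁ hz₂).symm
  let L := isLimitOfPreserves (forget CommRingCat.{u}) (limit.isLimit D)
  let s₀ : ((limit D : CommRingCat.{u}) : Type u) := (Types.isLimitEquivSections L).symm ⟨fam, fun h => hfam h⟩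
  have hs₀ : ∀ j, limit.π D j s₀ = fam j := fun j => Types.isLimitEquivSections_symm_apply L _ j
  obtain ⟨t, ht⟩ := hbij.2 (φ.inv s₀)
  have hφs : φ.hom (φ.inv s₀) = s₀ := φ.inv_hom_id_apply s₀
  refine ⟨t, ⟨?_, ?_⟩, fun t' ht' => ?_⟩
  · rw [← kl, ht, ← hφ, hφs, hs₀]
    exact (map_map_apply _ _ (𝟙 _) x).trans (by simp)
  · rw [← kr, ht, ← hφ, hφs, hs₀]
    exact (map_map_apply _ _ (𝟙 _) y).trans (by simp)
  · refine hbij.1 ?_
    refine (ConcreteCategory.bijective_of_isIso φ.hom).1 (Concrete.limit_ext _ _ _ fun j => ?_)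
    rw [ht, hφs, hs₀]
    obtain ⟨j⟩ := j
    have hinv : ∀ {A : PresheafedSpace.{u, u + 1, u} CommRingCat.{u}} {P Q : Opens A.carrier} (h : P = Q)
        (s : A.presheaf.obj (op Q)), A.presheaf.map (homOfLE h.ge).op (A.presheaf.map (homOfLE h.le).op s) = s := by
      rintro A P _ rfl s
      simp
    have hleft : limit.π D (op WalkingSpan.left) (φ.hom (e.hom.c.app (op V) t')) = fam (op WalkingSpan.left) := by
      rw [hφ]
      refine (hinv hla _).symm.trans (congrArg (X.presheaf.map (homOfLE hla.ge).op) ?_)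
      exact (kl t').trans ht'.1
    rcases j with _ | ⟨_ | _⟩
    · rw [← hfam (Quiver.Hom.op WalkingSpan.Hom.fst), ← hleft]
      exact (ConcreteCategory.congr_hom (limit.w D (Quiver.Hom.op WalkingSpan.Hom.fst)) _).symm
    · exact hleft
    · rw [hφ]
      refine (hinv hlb _).symm.trans (congrArg (Y.presheaf.map (homOfLE hlb.ge).op) ?_)
      exact (kr t').trans ht'.2

/-- For schemes forming a pushout square of ringed spaces. -/
theorem existsUnique_app {X Y Z T : Scheme.{u}} {fX : Z ⟶ X} {fY : Z ⟶ Y} {gX : X ⟶ T} {gY : Y ⟶ T}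
    (hpo : IsPushout ((Scheme.forgetToLocallyRingedSpace ⋙ LocallyRingedSpace.forgetToSheafedSpace).map fX)
      ((Scheme.forgetToLocallyRingedSpace ⋙ LocallyRingedSpace.forgetToSheafedSpace).map fY)
      ((Scheme.forgetToLocallyRingedSpace ⋙ LocallyRingedSpace.forgetToSheafedSpace).map gX)
      ((Scheme.forgetToLocallyRingedSpace ⋙ LocallyRingedSpace.forgetToSheafedSpace).map gY))
    (V : T.Opens) (x : Γ(X, gX ⁻¹ᵁ V)) (y : Γ(Y, gY ⁻¹ᵁ V))
    (hxy : ∀ (W : Z.Opens) (h₁ : W ≤ fX ⁻¹ᵁ (gX ⁻¹ᵁ V)) (h₂ : W ≤ fY ⁻¹ᵁ (gY ⁻¹ᵁ V)),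
      fX.appLE _ W h₁ x = fY.appLE _ W h₂ y) :
    ∃! t : Γ(T, V), gX.app V t = x ∧ gY.app V t = y :=
  existsUnique_sections (hpo.map SheafedSpace.forgetToPresheafedSpace) V x y hxy

end Groth.Agent.PinchSqLib
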